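import Cfsg.Agent.LThreeFi22.Ctx
import Cfsg.Agent.R01.Fi22Facts

/-!
# Every element of order five of `Fi22` commutes with a transposition (helper51)

`u0 = abcd` and `u1 = ilfg` generate a Sylow 5-subgroup; each of its six subgroups of order five fixes a point.
-/

set_option autoImplicit false

namespace Cfsg.Agent.LThreeFi22.Five

open Cfsg Cfsg.Agent.Fischer Cfsg.Agent.Fischer.Abstract Cfsg.Agent.Fischer.Centralizer
  Cfsg.Agent.Fischer.Group22 Cfsg.Agent.Fischer.Rank22
open Cfsg.Agent.R01.Fi22Facts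
open Cfsg.Agent.R01

/-- the element of a word -/
noncomputable def el (w : List Data22.Gen) : G := (w.map g).prod

theorem el_append (w w' : List Data22.Gen) : el (w ++ w') = el w * el w' := by
  rw [el, List.map_append, List.prod_append, el, el]

theorem one_of_chk {w : List Data22.Gen} (h : Cert.relCheck Data22.nx (nat_lit 54) (nat_lit 65) w = true) :
    el w = 1 := by
  have h1 := isRel_perm_of_check h
  have h2 : Cert.IsRel g w := by
    rw [Cert.isRel_def] at h1 ⊢
    apply Subtype.ext
    rw [← Subgroup.coe_subtype, map_list_prod, List.map_map]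
    exact h1
  rwa [Cert.isRel_def] at h2

theorem comm_of_chk {w : List Data22.Gen} {x : X} (h : Nat.beq (Cert.walk Data22.nx w.reverse x) x = true) :
    el w * R.t x = R.t x * el w := by
  have h1 : el w • x = x := by
    apply Fin.ext
    rw [el, Fi22Loc.val_word]
    exact Nat.eq_of_beq_eq_true h
  have h2 := R.map_smul (el w) x
  rw [h1] at h2
  exact (mul_inv_eq_iff_eq_mul.1 h2.symm)

theorem ncomm_of_chk {w : List Data22.Gen} {x : X} (h : Nat.beq (Cert.walk Data22.nx w.reverse x) x = false) :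
    el w * R.t x ≠ R.t x * el w := by
  intro h1
  have h2 := R.map_smul (el w) x
  rw [mul_inv_eq_iff_eq_mul.2 h1] at h2
  have h3 : ((el w • x : X) : ℕ) = x := congrArg (fun y : X => (y : ℕ)) (R.t_injective h2)
  rw [el, Fi22Loc.val_word] at h3
  rw [h3, Nat.beq_refl] at h
  exact absurd h (by decide)

open Data22.Gen in
/-- the first word -/
def w0 : List Data22.Gen := [a, b, c, d]

open Data22.Gen in
/-- the second word -/
def w1 : List Data22.Gen := [i, l, f, g]

theorem chk5a : Cert.relCheck Data22.nx (nat_lit 54) (nat_lit 65) (w0 ++ w0 ++ w0 ++ w0 ++ w0) = true := by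
  decide +kernel
theorem chk5b : Cert.relCheck Data22.nx (nat_lit 54) (nat_lit 65) (w1 ++ w1 ++ w1 ++ w1 ++ w1) = true := by
  decide +kernel
theorem chkc : Cert.relCheck Data22.nx (nat_lit 54) (nat_lit 65)
    (w0 ++ w1 ++ (w0 ++ w0 ++ w0 ++ w0) ++ (w1 ++ w1 ++ w1 ++ w1)) = true := by
  decide +kernel

theorem u0_pow : el w0 ^ 5 = 1 := by
  have h := one_of_chk chk5a
  simp only [el_append] at h
  rw [← h]
  simp only [pow_succ, pow_zero, one_mul]

theorem u1_pow : el w1 ^ 5 = 1 := by
  have h := one_of_chk chk5b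
  simp only [el_append] at h
  rw [← h]
  simp only [pow_succ, pow_zero, one_mul]

theorem u_comm : el w0 * el w1 = el w1 * el w0 := by
  have h := one_of_chk chkc
  simp only [el_append] at h
  have e0 : (el w0)⁻¹ = el w0 * el w0 * el w0 * el w0 := by
    apply inv_eq_of_mul_eq_one_right
    rw [← u0_pow]
    simp only [pow_succ, pow_zero, one_mul, mul_assoc]
  have e1 : (el w1)⁻¹ = el w1 * el w1 * el w1 * el w1 := by
    apply inv_eq_of_mul_eq_one_right
    rw [← u1_pow]
    simp only [pow_succ, pow_zero, one_mul, mul_assoc]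
  rw [← e0, ← e1] at h
  have h1 := mul_inv_eq_one.1 h
  exact mul_inv_eq_iff_eq_mul.1 h1

theorem fix0 : el w0 * R.t (pt 2854 (by norm_num)) = R.t (pt 2854 (by norm_num)) * el w0 :=
  comm_of_chk (by decide +kernel)
theorem nfix1 : el w1 * R.t (pt 2854 (by norm_num)) ≠ R.t (pt 2854 (by norm_num)) * el w1 :=
  ncomm_of_chk (by decide +kernel)
theorem fix1 : el w1 * R.t (pt 0 (by norm_num)) = R.t (pt 0 (by norm_num)) * el w1 :=
  comm_of_chk (by decide +kernel)
theorem nfix0 : el w0 * R.t (pt 0 (by norm_num)) ≠ R.t (pt 0 (by norm_num)) * el w0 :=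
  ncomm_of_chk (by decide +kernel)
theorem fixa : el (w0 ++ w1) * R.t (pt 2133 (by norm_num)) = R.t (pt 2133 (by norm_num)) * el (w0 ++ w1) :=
  comm_of_chk (by decide +kernel)
theorem fixb : el (w0 ++ w1 ++ w1) * R.t (pt 2414 (by norm_num)) = R.t (pt 2414 (by norm_num)) * el (w0 ++ w1 ++ w1) :=
  comm_of_chk (by decide +kernel)
theorem fixc : el (w0 ++ w1 ++ w1 ++ w1) * R.t (pt 2413 (by norm_num)) =
    R.t (pt 2413 (by norm_num)) * el (w0 ++ w1 ++ w1 ++ w1) :=
  comm_of_chk (by decide +kernel)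
theorem fixd : el (w0 ++ w1 ++ w1 ++ w1 ++ w1) * R.t (pt 2025 (by norm_num)) =
    R.t (pt 2025 (by norm_num)) * el (w0 ++ w1 ++ w1 ++ w1 ++ w1) :=
  comm_of_chk (by decide +kernel)

theorem fix_all (j : ℕ) : ∃ x : X, el w0 * el w1 ^ j * R.t x = R.t x * (el w0 * el w1 ^ j) := by
  have hj : el w1 ^ j = el w1 ^ (j % 5) := by
    conv_lhs => rw [← Nat.mod_add_div j 5, pow_add, pow_mul, u1_pow, one_pow, mul_one]
  rw [hj]
  have h5 : j % 5 < 5 := Nat.mod_lt _ (by norm_num)
  generalize j % 5 = k at h5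
  have e : ∀ k, el (w0 ++ (List.replicate k w1).flatten) = el w0 * el w1 ^ k := by
    intro k
    rw [el_append]
    congr 1
    induction k with
    | zero => rfl
    | succ k ih => rw [List.replicate_succ, List.flatten_cons, el_append, ih, pow_succ']
  interval_cases k
  · exact ⟨_, by rw [pow_zero, mul_one]; exact fix0⟩
  · refine ⟨pt 2133 (by norm_num), ?_⟩
    have h := fixa
    rw [el_append] at h
    rw [pow_one]; exact h
  · refine ⟨pt 2414 (by norm_num), ?_⟩
    have h := fixb
    rw [el_append, el_append, mul_assoc (el w0), ← pow_two] at h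
    exact h
  · refine ⟨pt 2413 (by norm_num), ?_⟩
    have h := fixc
    rw [el_append, el_append, el_append, mul_assoc (el w0), ← pow_two, mul_assoc (el w0), ← pow_succ] at h
    exact h
  · refine ⟨pt 2025 (by norm_num), ?_⟩
    have h := fixd
    rw [el_append, el_append, el_append, el_append, mul_assoc (el w0), ← pow_two, mul_assoc (el w0), ← pow_succ,
      mul_assoc (el w0), ← pow_succ] at h
    exact h

theorem card_G : Nat.card G = 64561751654400 := by
  rw [← Cfsg.Agent.R01.Fi22Facts.card]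
  exact Nat.card_congr Cfsg.Agent.R01.Fi22Facts.E.toEquiv

/-- **every element of order five commutes with a transposition** -/
theorem ex5 (u : G) (hu : u ^ 5 = 1) (hu1 : u ≠ 1) : ∃ x : X, u * R.t x = R.t x * u := by
  have hfin : Finite G := Nat.finite_of_card_ne_zero (by rw [card_G]; norm_num)
  have : Fact (Nat.Prime 5) := ⟨by norm_num⟩
  have hu0 : el w0 ≠ 1 := fun h => nfix0 (by rw [h, one_mul, mul_one])
  have hu1' : el w1 ≠ 1 := fun h => nfix1 (by rw [h, one_mul, mul_one])
  have o0 : orderOf (el w0) = 5 := orderOf_eq_prime u0_pow hu0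
  have o1 : orderOf (el w1) = 5 := orderOf_eq_prime u1_pow hu1'
  have hcomm : ∀ (a : ↥(Subgroup.zpowers (el w0))) (b : ↥(Subgroup.zpowers (el w1))),
      Commute ((Subgroup.zpowers (el w0)).subtype a) ((Subgroup.zpowers (el w1)).subtype b) := by
    rintro ⟨_, m, rfl⟩ ⟨_, n, rfl⟩
    exact Commute.zpow_zpow (show Commute (el w0) (el w1) from u_comm) m n
  let f := MonoidHom.noncommCoprod (Subgroup.zpowers (el w0)).subtype (Subgroup.zpowers (el w1)).subtype hcomm
  have hf : ∀ a b, f (a, b) = (a : G) * b := fun a b => rfl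
  have hinj : Function.Injective f := by
    rw [injective_iff_map_eq_one]
    rintro ⟨⟨a, ha⟩, ⟨b, hb⟩⟩ h
    rw [hf] at h
    have h1 : a = b⁻¹ := eq_inv_of_mul_eq_one_left h
    have h2 : a ∈ Subgroup.zpowers (el w1) := by rw [h1]; exact Subgroup.inv_mem _ hb
    have h3 : a = 1 := by
      by_contra ha1
      -- then `zpowers a = zpowers u0 = zpowers u1`
      have oa : orderOf a = 5 := by
        apply orderOf_eq_prime _ ha1
        have : orderOf a ∣ 5 := by rw [← o0]; exact orderOf_dvd_of_mem_zpowers ha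
        exact orderOf_dvd_iff_pow_eq_one.1 this
      have e0 : Subgroup.zpowers a = Subgroup.zpowers (el w0) := by
        apply Subgroup.eq_of_le_of_card_ge (Subgroup.zpowers_le.2 ha)
        rw [Nat.card_zpowers, Nat.card_zpowers, o0, oa]
      have e1 : Subgroup.zpowers a = Subgroup.zpowers (el w1) := by
        apply Subgroup.eq_of_le_of_card_ge (Subgroup.zpowers_le.2 h2)
        rw [Nat.card_zpowers, Nat.card_zpowers, o1, oa]
      have h4 : el w0 ∈ Subgroup.zpowers (el w1) := by
        rw [← e1, e0]; exact Subgroup.mem_zpowers _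
      obtain ⟨m, hm⟩ := h4
      apply nfix0
      have h5 : Commute (el w1) (R.t (pt 0 (by norm_num))) := fix1
      rw [← hm]
      exact (h5.zpow_left m).eq
    have h4 : b = 1 := by
      have h5 : a * b = 1 := h
      rwa [h3, one_mul] at h5
    subst h3 h4
    rfl
  have hcard : Nat.card ↥f.range = 25 := by
    rw [← Nat.card_congr (MonoidHom.ofInjective hinj).toEquiv, Nat.card_prod, Nat.card_zpowers, Nat.card_zpowers, o0, o1]
  have hfac : (64561751654400 : ℕ) = 5 ^ 2 * 2582470066176 := by norm_num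
  have hfact : (Nat.card G).factorization 5 = 2 := by
    rw [card_G, hfac, Nat.factorization_mul (by norm_num) (by norm_num), Finsupp.add_apply,
      Nat.Prime.factorization_pow (by norm_num), Finsupp.single_eq_same,
      Nat.factorization_eq_zero_of_not_dvd (by norm_num)]
  have hcard' : Nat.card ↥f.range = 5 ^ (Nat.card G).factorization 5 := by
    rw [hcard, hfact]; norm_num
  let P : Sylow 5 G := Sylow.ofCard f.range hcard'
  obtain ⟨Q, hQ⟩ := (IsPGroup.of_card (p := 5) (n := 1) (G := ↥(Subgroup.zpowers u)) (by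
    rw [Nat.card_zpowers, orderOf_eq_prime hu hu1, pow_one])).exists_le_sylow
  obtain ⟨k, hk⟩ := MulAction.exists_smul_eq G Q P
  have huQ : u ∈ Q := hQ (Subgroup.mem_zpowers u)
  have hkP : k * u * k⁻¹ ∈ f.range := by
    have h1 : k * u * k⁻¹ ∈ ((k • Q : Sylow 5 G) : Subgroup G) := by
      rw [Sylow.coe_subgroup_smul]
      have := Subgroup.smul_mem_pointwise_smul u (MulAut.conj k) (Q : Subgroup G) huQ
      simpa [MulAut.smul_def] using this
    rw [hk] at h1
    exact h1
  obtain ⟨⟨⟨a, ha⟩, ⟨b, hb⟩⟩, hab⟩ := hkP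
  rw [hf] at hab
  have hab' : a * b = k * u * k⁻¹ := hab
  obtain ⟨m, hm⟩ := mem_powers_iff_mem_zpowers.2 ha
  obtain ⟨n, hn⟩ := mem_powers_iff_mem_zpowers.2 hb
  simp only at hm hn
  -- it suffices to treat `q = k u k⁻¹`
  suffices h : ∃ x : X, (k * u * k⁻¹) * R.t x = R.t x * (k * u * k⁻¹) by
    obtain ⟨x, hx⟩ := h
    refine ⟨k⁻¹ • x, ?_⟩
    rw [R.map_smul]
    calc u * (k⁻¹ * R.t x * k⁻¹⁻¹) = k⁻¹ * ((k * u * k⁻¹) * R.t x) * k := by group
      _ = k⁻¹ * (R.t x * (k * u * k⁻¹)) * k := by rw [hx]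
      _ = _ := by group
  rw [← hab']
  set q := a * b with hq
  have hq5 : q ^ 5 = 1 := by
    rw [hab', conj_pow, hu, mul_one, mul_inv_cancel]
  have hcab : Commute (el w0) (el w1) := u_comm
  by_cases hm5 : m % 5 = 0
  · -- `a = 1`
    have ha1 : a = 1 := by
      rw [← hm, ← Nat.mod_add_div m 5, hm5, zero_add, pow_mul, u0_pow, one_pow]
    refine ⟨pt 0 (by norm_num), ?_⟩
    rw [hq, ha1, one_mul, ← hn]
    exact (Commute.pow_left (show Commute (el w1) _ from fix1) n).eq
  · obtain ⟨s, hs⟩ : ∃ s, (m * s) % 5 = 1 := by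
      have h5 : m % 5 = 1 ∨ m % 5 = 2 ∨ m % 5 = 3 ∨ m % 5 = 4 := by omega
      rcases h5 with h5 | h5 | h5 | h5
      · exact ⟨1, by omega⟩
      · exact ⟨3, by omega⟩
      · exact ⟨2, by omega⟩
      · exact ⟨4, by omega⟩
    have hqs : q ^ s = el w0 * el w1 ^ (n * s) := by
      rw [hq, ← hm, ← hn, (hcab.pow_pow m n).mul_pow, ← pow_mul, ← pow_mul]
      congr 1
      rw [← Nat.mod_add_div (m * s) 5, hs, pow_add, pow_mul, u0_pow, one_pow, mul_one, pow_one]
    obtain ⟨x, hx⟩ := fix_all (n * s)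
    rw [← hqs] at hx
    refine ⟨x, ?_⟩
    have h6 : (q ^ s) ^ m = q := by
      rw [← pow_mul, mul_comm s m, ← Nat.mod_add_div (m * s) 5, hs, pow_add, pow_mul, hq5, one_pow, mul_one, pow_one]
    have h7 := (Commute.pow_left (show Commute (q ^ s) (R.t x) from hx) m).eq
    rwa [h6] at h7

open Data22.Gen in
/-- two noncommuting transpositions with a common neighbour -/
theorem mupos : ∃ x y w : X, R.t x * R.t y ≠ R.t y * R.t x ∧ R.t x * R.t w = R.t w * R.t x ∧
    R.t y * R.t w = R.t w * R.t y := by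
  have ha : el [a] = R.t (pg a) := by rw [el, List.map_cons, List.map_nil, List.prod_singleton]; exact (t_pg _).symm
  have hb : el [b] = R.t (pg b) := by rw [el, List.map_cons, List.map_nil, List.prod_singleton]; exact (t_pg _).symm
  refine ⟨pg a, pg b, pg f, ?_, ?_, ?_⟩
  · rw [← ha]; exact ncomm_of_chk (by decide +kernel)
  · rw [← ha]; exact comm_of_chk (by decide +kernel)
  · rw [← hb]; exact comm_of_chk (by decide +kernel)

end Cfsg.Agent.LThreeFi22.Five
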