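import Cfsg.Agent.LThreeU7.Lin
import Cfsg.Agent.ClassicalGeometry.UnitTransv
import Cfsg.Agent.LThreeFi22.Ctx
import Cfsg.Agent.R01.Label
import Cfsg.Agent.KFacts.FiTT.AllPairs
import Cfsg.Agent.LThreeFi22.Five

-- merged: Cfsg.Agent.LThreeFi22.Lin
section

/-!
# Elements of order `5`, `7`, `11` of `SU₆(2)` and their centralizers (helper51)

`B ∈ SU₆(2)`, `B ^ r = 1 ≠ B`, `r ∈ {5, 7, 11}`, `A` an element of order three commuting with `B`.
* `fix_le` : the fixed space of `B` has dimension at most `2`, `0`, `1`;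
* `scalar_of_comm` : `A` is a scalar if `r = 7, 11`;
* `scalar_five` : `A` is a scalar if `r = 5` and `A` fixes three isotropic points of the fixed space of `B`;
* `cube_scalar` : if `A ∈ SU₆(2)` and `A ^ 3` is a scalar then `A ^ 3 = 1`.
-/

set_option autoImplicit false
set_option linter.unusedSectionVars false

namespace Cfsg.Agent.LThreeFi22.Lin

open Cfsg Cfsg.Agent.LieClassical.HermBasic Cfsg.Agent.LieClassical.HermSiegel
  Cfsg.Agent.ClassicalGeometry.HermOrtho Cfsg.Agent.LThreeU7 Matrix Module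
open Cfsg.Agent.LieClassical.HermGen

variable {F : Type*} [Field F] [Fintype F] {n : ℕ} (hF : Fintype.card F = 2 ^ 2)

include hF

theorem not_dvd_GU {r k : ℕ} (h : (r = 5 ∧ k ≤ 3) ∨ (r = 7 ∧ k ≤ 5) ∨ (r = 11 ∧ k ≤ 4)) :
    ¬ r ∣ Nat.card (GU k F 2) := by
  rw [Cfsg.Agent.S0277.result hF k]
  rcases h with ⟨rfl, h⟩ | ⟨rfl, h⟩ | ⟨rfl, h⟩ <;> interval_cases k <;>
    simp [Finset.prod_range_succ] <;> decide

/-- an element of order `r` acts trivially on small invariant non-degenerate subspaces -/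
theorem triv {r : ℕ} (hr : r.Prime) (W : Submodule F (Fin n → F))
    (hW : ∀ u ∈ W, (∀ v ∈ W, hermForm n F 2 u v = 0) → u = 0)
    (hc : ¬ r ∣ Nat.card (GU (finrank F W) F 2)) {B : SU n F 2} (hB : B ^ r = 1)
    (hBW : ∀ w ∈ W, act B w ∈ W) {w : Fin n → F} (hw : w ∈ W) : act B w = w := by
  have hpow : ∀ (m : ℕ), ∀ w ∈ W, act (B ^ m) w ∈ W := by
    intro m
    induction m with
    | zero => intro w hw; rwa [pow_zero, act_one]
    | succ m ih => intro w hw; rw [pow_succ, act_mul]; exact ih _ (hBW w hw)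
  have hC : ∀ c ∈ Subgroup.zpowers B, ∀ w ∈ W, act c w ∈ W := by
    intro c hc w hw
    obtain ⟨m, rfl⟩ := mem_powers_iff_mem_zpowers.2 hc
    exact hpow m w hw
  obtain ⟨ρ, hρ⟩ := exists_rho hF W hW rfl (Subgroup.zpowers B) hC
  have h1 : (ρ ⟨B, Subgroup.mem_zpowers B⟩) ^ r = 1 := by
    rw [← map_pow]
    have : (⟨B, Subgroup.mem_zpowers B⟩ : ↥(Subgroup.zpowers B)) ^ r = 1 := Subtype.ext hB
    rw [this, map_one]
  have h2 : orderOf (ρ ⟨B, Subgroup.mem_zpowers B⟩) ∣ r := orderOf_dvd_of_pow_eq_one h1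
  rcases (Nat.dvd_prime hr).1 h2 with h3 | h3
  · exact hρ _ (orderOf_eq_one_iff.1 h3) w hw
  · exfalso
    apply hc
    rw [← h3]
    exact orderOf_dvd_natCard _

/-- the fixed space of an element of odd order is non-degenerate -/
theorem fix_nondeg {r : ℕ} (hr : Odd r) {B : SU n F 2} (hB : B ^ r = 1) :
    ∀ u ∈ E B 1, (∀ v ∈ E B 1, hermForm n F 2 u v = 0) → u = 0 := by
  intro u hu h
  refine herm_nondeg hF fun w => ?_
  rw [mem_E, one_smul] at hu
  have hup : ∀ i : ℕ, act (B ^ i) u = u := by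
    intro i
    induction i with
    | zero => rw [pow_zero, act_one]
    | succ i ih => rw [pow_succ, act_mul, hu, ih]
  have hS : (∑ i ∈ Finset.range r, act (B ^ i) w) ∈ E B 1 := by
    rw [mem_E, one_smul, act_sum]
    have h1 : ∀ i, act B (act (B ^ i) w) = act (B ^ (i + 1)) w := by
      intro i
      rw [pow_succ', act_mul]
    simp only [h1]
    have h2 := Finset.sum_range_succ (fun i => act (B ^ i) w) r
    have h3 := Finset.sum_range_succ' (fun i => act (B ^ i) w) r
    rw [h2] at h3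
    simp only [hB, pow_zero] at h3
    exact (add_right_cancel h3).symm
  have h4 := h _ hS
  rw [herm_sum_right hF] at h4
  have h5 : ∀ i ∈ Finset.range r, hermForm n F 2 u (act (B ^ i) w) = hermForm n F 2 u w := by
    intro i _
    conv_lhs => rw [← hup i]
    exact herm_act _ _ _
  rw [Finset.sum_congr rfl h5, Finset.sum_const, Finset.card_range] at h4
  obtain ⟨k, rfl⟩ := hr
  have h6 := LThreeU7.two_eq_zero hF
  have h7 : ((2 * k + 1 : ℕ) : F) = 1 := by
    push_cast
    rw [h6]; ring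
  rw [nsmul_eq_mul, h7, one_mul] at h4
  exact h4

theorem fix_dim {r : ℕ} (hr : r.Prime) (hr2 : r ≠ 2) {B : SU n F 2} (hB : B ^ r = 1) (hB1 : B ≠ 1) {k : ℕ}
    (hk : finrank F (E B 1) + k = n) : r ∣ Nat.card (GU k F 2) := by
  by_contra hcon
  apply hB1
  have hnd := fix_nondeg hF (hr.odd_of_ne_two hr2) hB
  have h1 := finrank_hermPerp_of_nondeg hF (E B 1) hnd
  have h2 : finrank F (hermPerp 2 (E B 1 : Set (Fin n → F)) : Submodule F (Fin n → F)) = k := by omega
  have h3 : ∀ w ∈ (hermPerp 2 (E B 1 : Set (Fin n → F)) : Submodule F (Fin n → F)), act B w = w := by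
    intro w hw
    refine triv hF hr _ (hermPerp_nondeg hF _ hnd) (by rw [h2]; exact hcon) hB (fun w hw => ?_) hw
    intro v hv
    have hv' : act B v = v := by
      have := mem_E.1 (SetLike.mem_coe.1 hv)
      rwa [one_smul] at this
    rw [← hv', herm_act]
    exact hw v hv
  apply ext_act
  intro x
  obtain ⟨w, hw, u, hu, rfl⟩ := exists_add_perp hF (E B 1) hnd x
  have hw' : act B w = w := by
    have := mem_E.1 hw
    rwa [one_smul] at this
  rw [act_add, act_one, hw', h3 u hu]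

/-- a non-degenerate subspace of dimension at most one contains no isotropic vector -/
theorem no_iso {W : Submodule F (Fin n → F)}
    (hW : ∀ u ∈ W, (∀ v ∈ W, hermForm n F 2 u v = 0) → u = 0) (h1 : finrank F W ≤ 1)
    {v : Fin n → F} (hv : v ∈ W) (hvv : hermForm n F 2 v v = 0) : v = 0 := by
  by_contra h0
  apply h0
  have h2 : finrank F W = 1 := by
    have : Nontrivial ↥W := ⟨⟨⟨v, hv⟩, 0, fun h => h0 (congrArg Subtype.val h)⟩⟩
    have := Module.finrank_pos (R := F) (M := ↥W)
    omega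
  have h3 : (⟨v, hv⟩ : ↥W) ≠ 0 := fun h => h0 (congrArg Subtype.val h)
  refine hW v hv fun w hw => ?_
  obtain ⟨c, hc⟩ := (finrank_eq_one_iff_of_nonzero' (⟨v, hv⟩ : ↥W) h3).1 h2 ⟨w, hw⟩
  have h4 : c • v = w := congrArg Subtype.val hc
  rw [← h4, herm_smul_right, hvv, mul_zero]

/-- `r = 7, 11`: no isotropic fixed vector -/
theorem fix_iso {r : ℕ} (hr : r = 7 ∨ r = 11) {B : SU 6 F 2} (hB : B ^ r = 1) (hB1 : B ≠ 1)
    {v : Fin 6 → F} (hv : act B v = v) (hvv : hermForm 6 F 2 v v = 0) : v = 0 := by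
  have hp : r.Prime := by rcases hr with rfl | rfl <;> norm_num
  have hr2 : r ≠ 2 := by rcases hr with rfl | rfl <;> norm_num
  have hnd := fix_nondeg hF (hp.odd_of_ne_two hr2) hB
  have hle : finrank F (E B 1) ≤ 6 := by
    have := Submodule.finrank_le (E B 1)
    rwa [finrank_fin_fun] at this
  obtain ⟨k, hk⟩ : ∃ k, finrank F (E B 1) + k = 6 := ⟨6 - finrank F (E B 1), by omega⟩
  have h1 := fix_dim hF hp hr2 hB hB1 hk
  refine no_iso hF hnd ?_ (v := v) (by rw [mem_E, one_smul]; exact hv) hvv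
  by_contra hcon
  refine not_dvd_GU hF (r := r) (k := k) ?_ h1
  rcases hr with rfl | rfl
  · exact Or.inr (Or.inl ⟨rfl, by omega⟩)
  · exact Or.inr (Or.inr ⟨rfl, by omega⟩)

/-- `r = 5`: the fixed space has dimension at most two -/
theorem fix_five {B : SU 6 F 2} (hB : B ^ 5 = 1) (hB1 : B ≠ 1) : finrank F (E B 1) ≤ 2 := by
  have hle : finrank F (E B 1) ≤ 6 := by
    have := Submodule.finrank_le (E B 1)
    rwa [finrank_fin_fun] at this
  obtain ⟨k, hk⟩ : ∃ k, finrank F (E B 1) + k = 6 := ⟨6 - finrank F (E B 1), by omega⟩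
  have h1 := fix_dim hF (by norm_num) (by norm_num) hB hB1 hk
  by_contra hcon
  exact not_dvd_GU hF (r := 5) (k := k) (Or.inl ⟨rfl, by omega⟩) h1

/-- the isotropic points of a non-degenerate plane -/
theorem plane {W : Submodule F (Fin n → F)}
    (hW : ∀ u ∈ W, (∀ v ∈ W, hermForm n F 2 u v = 0) → u = 0) (h2 : finrank F W = 2) :
    ∃ p ∈ W, ∃ q ∈ W, hermForm n F 2 p p = 1 ∧ hermForm n F 2 q q = 1 ∧ hermForm n F 2 p q = 0 ∧
      hermForm n F 2 q p = 0 ∧ (∀ v ∈ W, v = hermForm n F 2 v p • p + hermForm n F 2 v q • q) ∧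
      ∀ v ∈ W, v ≠ 0 → hermForm n F 2 v v = 0 → ∃ c t : F, c ≠ 0 ∧ t ^ 3 = 1 ∧ v = c • (p + t • q) := by
  obtain ⟨b, hbW, hb⟩ := exists_orthonormal hF W hW h2
  have hk : finrank F W = Fintype.card (Fin 2) := by rw [h2, Fintype.card_fin]
  have e00 : hermForm n F 2 (b 0) (b 0) = 1 := by rw [hb, if_pos rfl]
  have e11 : hermForm n F 2 (b 1) (b 1) = 1 := by rw [hb, if_pos rfl]
  have e01 : hermForm n F 2 (b 0) (b 1) = 0 := by rw [hb, if_neg (by decide)]
  have e10 : hermForm n F 2 (b 1) (b 0) = 0 := by rw [hb, if_neg (by decide)]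
  have hsum : ∀ v ∈ W, v = hermForm n F 2 v (b 0) • b 0 + hermForm n F 2 v (b 1) • b 1 := by
    intro v hv
    have h := eq_sum_of_orthonormal W hk hbW hb hv
    rwa [Fin.sum_univ_two] at h
  refine ⟨b 0, hbW 0, b 1, hbW 1, e00, e11, e01, e10, hsum, fun v hv hv0 hvv => ?_⟩
  have h3 := hsum v hv
  set x := hermForm n F 2 v (b 0)
  set y := hermForm n F 2 v (b 1)
  have h4 : x ^ 3 + y ^ 3 = 0 := by
    rw [h3, herm_add_left, herm_add_right hF, herm_add_right hF, herm_smul_left, herm_smul_left,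
      herm_smul_left, herm_smul_left, herm_smul_right, herm_smul_right, herm_smul_right, herm_smul_right,
      e00, e11, e01, e10] at hvv
    linear_combination hvv
  have h5 := LThreeU7.two_eq_zero hF
  have hx0 : x ≠ 0 := by
    intro h
    rw [h] at h4
    have hy : y = 0 := by
      have : y ^ 3 = 0 := by linear_combination h4
      exact pow_eq_zero_iff (by norm_num) |>.1 this
    apply hv0
    rw [h3, h, hy, zero_smul, zero_smul, add_zero]
  have hy0 : y ≠ 0 := by
    intro h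
    rw [h] at h4
    apply hx0
    have : x ^ 3 = 0 := by linear_combination h4
    exact pow_eq_zero_iff (by norm_num) |>.1 this
  refine ⟨x, x⁻¹ * y, hx0, cube_of_ne hF (mul_ne_zero (inv_ne_zero hx0) hy0), ?_⟩
  rw [h3, smul_add, smul_smul, ← mul_assoc, mul_inv_cancel₀ hx0, one_mul]

/-! ### scalars -/

/-- `r = 7, 11`: an element `A` with `A ^ 3 = 1` commuting with `B` is a scalar. -/
theorem scalar_of_comm {r : ℕ} (hr : r = 7 ∨ r = 11) {A B : SU 6 F 2} (hB : B ^ r = 1) (hB1 : B ≠ 1)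
    (hA : A ^ 3 = 1) (hAB : A * B = B * A) : ∃ c : F, ∀ v, act A v = c • v := by
  have hp : r.Prime := by rcases hr with rfl | rfl <;> norm_num
  have hBc : B ∈ Subgroup.centralizer ({A} : Set (SU 6 F 2)) := by
    rw [Subgroup.mem_centralizer_singleton_iff]; exact hAB.symm
  have hle : ∀ c : F, finrank F (E A c) ≤ 6 := fun c => by
    have := Submodule.finrank_le (E A c)
    rwa [finrank_fin_fun] at this
  by_contra hcon
  have h6 : ∀ c : F, finrank F (E A c) ≠ 6 := by
    intro c h6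
    apply hcon
    have h7 : E A c = ⊤ := Submodule.eq_top_of_finrank_eq (by rw [h6, finrank_fin_fun])
    exact ⟨c, fun v => mem_E.1 (h7 ▸ Submodule.mem_top)⟩
  -- some eigenspace is not small
  obtain ⟨c, hc3, hc⟩ : ∃ c : F, c ^ 3 = 1 ∧ r ∣ Nat.card (GU (finrank F (E A c)) F 2) := by
    by_contra h8
    push Not at h8
    apply hB1
    apply ext_act
    intro v
    rw [act_one]
    refine eig_induction hF hA (P := fun v => act B v = v) (fun u v h1 h2 => ?_) (fun c hc v hv => ?_) v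
    · rw [act_add, h1, h2]
    · exact triv hF hp (E A c) (nondeg hF hA) (h8 c hc) hB (fun w hw => cent_E hBc hw) hv
  have h9 : 5 ≤ finrank F (E A c) := by
    by_contra h9
    refine not_dvd_GU hF (r := r) ?_ hc
    rcases hr with rfl | rfl
    · exact Or.inr (Or.inl ⟨rfl, by omega⟩)
    · exact Or.inr (Or.inr ⟨rfl, by omega⟩)
  have h5 : finrank F (E A c) = 5 := by
    have := hle c
    have := h6 c
    omega
  -- the orthogonal complement is spanned by `p`
  have hnd := nondeg hF hA (a := c)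
  have hperp := finrank_hermPerp_of_nondeg hF (E A c) hnd
  have hp1 : finrank F (hermPerp 2 (E A c : Set (Fin 6 → F)) : Submodule F (Fin 6 → F)) = 1 := by omega
  obtain ⟨b, hbW, hb⟩ := exists_orthonormal hF _ (hermPerp_nondeg hF _ hnd) hp1
  have hk : finrank F (hermPerp 2 (E A c : Set (Fin 6 → F)) : Submodule F (Fin 6 → F)) = Fintype.card (Fin 1) := by
    rw [hp1, Fintype.card_fin]
  have hpp : hermForm 6 F 2 (b 0) (b 0) = 1 := by rw [hb, if_pos rfl]
  have hAp : act A (b 0) ∈ (hermPerp 2 (E A c : Set (Fin 6 → F)) : Submodule F (Fin 6 → F)) := by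
    intro v hv
    have hv' := mem_E.1 (SetLike.mem_coe.1 hv)
    have h10 := hbW 0 v hv
    have h11 := herm_act A (b 0) v
    rw [hv', herm_smul_right, h10] at h11
    have hc0 := ne_zero_of_cube hc3
    rcases mul_eq_zero.1 h11 with h12 | h12
    · exact absurd h12 (pow_ne_zero 2 hc0)
    · exact h12
  have hAp1 := eq_sum_of_orthonormal _ hk hbW hb hAp
  rw [Fin.sum_univ_one] at hAp1
  set a := hermForm 6 F 2 (act A (b 0)) (b 0)
  have hAv : ∀ v, act A v = c • v + ((a - c) * hermForm 6 F 2 v (b 0)) • b 0 := by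
    intro v
    obtain ⟨w, hw, u, hu, rfl⟩ := exists_add_perp hF (E A c) hnd v
    have hu1 := eq_sum_of_orthonormal _ hk hbW hb hu
    rw [Fin.sum_univ_one] at hu1
    have hwb : hermForm 6 F 2 w (b 0) = 0 := herm_eq_zero_swap hF (hbW 0 w hw)
    rw [act_add, mem_E.1 hw, herm_add_left, hwb, zero_add]
    conv_lhs => rw [hu1, act_smul, hAp1]
    conv_rhs => rw [smul_add]
    conv_rhs => enter [1, 2]; rw [hu1]
    module
  -- determinant
  have hc0 := ne_zero_of_cube hc3
  have hdet : (mat A).det = 1 := A.1.2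
  have hmat : mat A = c • Cfsg.Agent.ClassicalGeometry.UnitTransv.rankOne 2 ((c⁻¹ * (a - c)) • b 0) (b 0) := by
    apply Matrix.mulVec_injective
    funext v
    rw [Matrix.smul_mulVec, Cfsg.Agent.ClassicalGeometry.UnitTransv.rankOne_mulVec]
    have := hAv v
    rw [act_def] at this
    rw [this, smul_add, smul_smul, smul_smul]
    congr 2
    field_simp
  have hac : a = c := by
    rw [hmat, Matrix.det_smul, Cfsg.Agent.ClassicalGeometry.UnitTransv.det_rankOne, herm_smul_left, hpp,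
      Fintype.card_fin] at hdet
    have h12 : c ^ 6 = 1 := by rw [show (6 : ℕ) = 3 * 2 from rfl, pow_mul, hc3, one_pow]
    rw [h12, one_mul, mul_one] at hdet
    field_simp at hdet
    linear_combination hdet
  apply h6 c
  have h13 : E A c = ⊤ := by
    rw [eq_top_iff]
    intro v _
    rw [mem_E, hAv v, hac, sub_self, zero_mul, zero_smul, add_zero]
  rw [h13, finrank_top, finrank_fin_fun]

/-- `r = 5`: an element `A` with `A ^ 3 = 1` commuting with `B` that fixes three isotropic points of the fixed space of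
`B` is a scalar. -/
theorem scalar_five {A B : SU 6 F 2} (hB : B ^ 5 = 1) (hB1 : B ≠ 1)
    (hA : A ^ 3 = 1) (hAB : A * B = B * A) {p q : Fin 6 → F} {w : F} (hw : w ^ 2 + w + 1 = 0)
    (hp : p ∈ E B 1) (hq : q ∈ E B 1) (hpp : hermForm 6 F 2 p p = 1) (hqq : hermForm 6 F 2 q q = 1)
    (hpq : hermForm 6 F 2 p q = 0) {c1 c2 c3 : F} (h1 : act A (p + q) = c1 • (p + q))
    (h2 : act A (p + w • q) = c2 • (p + w • q)) (h3 : act A (p + w ^ 2 • q) = c3 • (p + w ^ 2 • q)) :
    ∃ c : F, ∀ v, act A v = c • v := by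
  have h22 := LThreeU7.two_eq_zero hF
  have hqp : hermForm 6 F 2 q p = 0 := herm_eq_zero_swap hF hpq
  have hw0 : w ≠ 0 := by rintro rfl; norm_num at hw
  have hw3 : w ^ 3 = 1 := cube_of_ne hF hw0
  -- `A` is a scalar on `⟨p, q⟩`
  rw [act_add] at h1
  rw [act_add, act_smul] at h2 h3
  have hAq : (w + 1) • act A q = (c1 + c2) • p + (c1 + c2 * w) • q := by
    have : act A p + act A q + (act A p + w • act A q) = c1 • (p + q) + c2 • (p + w • q) := by rw [h1, h2]
    have e1 : act A p + act A q + (act A p + w • act A q) = (2 : F) • act A p + (w + 1) • act A q := by module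
    rw [e1, h22, zero_smul, zero_add] at this
    rw [this]
    module
  have hAp : (w + 1) • act A p = (c1 * w + c2) • p + (c1 * w + c2 * w) • q := by
    have : w • (act A p + act A q) + (act A p + w • act A q) = (w * c1) • (p + q) + c2 • (p + w • q) := by
      rw [h1, h2, smul_smul]
    have e1 : w • (act A p + act A q) + (act A p + w • act A q) = (w + 1) • act A p + (2 * w : F) • act A q := by module
    rw [e1, h22, zero_mul, zero_smul, add_zero] at this
    rw [this]
    module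
  have hA3 : ((c1 * w + c2) + w ^ 2 * (c1 + c2) + (w + 1) * c3) • p +
      ((c1 * w + c2 * w) + w ^ 2 * (c1 + c2 * w) + (w + 1) * c3 * w ^ 2) • q = 0 := by
    have h4 : (w + 1) • act A p + w ^ 2 • ((w + 1) • act A q) = ((w + 1) * c3) • (p + w ^ 2 • q) := by
      rw [← smul_smul, ← h3]; module
    rw [hAq, hAp] at h4
    have h5 : (c1 * w + c2) • p + (c1 * w + c2 * w) • q + w ^ 2 • ((c1 + c2) • p + (c1 + c2 * w) • q) +
        ((w + 1) * c3) • (p + w ^ 2 • q) = (2 * ((w + 1) * c3)) • (p + w ^ 2 • q) := by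
      rw [h4]; module
    rw [h22, zero_mul, zero_smul] at h5
    rw [← h5]; module
  have hx : (c1 * w + c2) + w ^ 2 * (c1 + c2) + (w + 1) * c3 = 0 := by
    have := congrArg (fun z => hermForm 6 F 2 z p) hA3
    simp only [herm_add_left, herm_smul_left, hpp, hqp, mul_one, mul_zero, add_zero, herm_zero_left] at this
    exact this
  have hy : (c1 * w + c2 * w) + w ^ 2 * (c1 + c2 * w) + (w + 1) * c3 * w ^ 2 = 0 := by
    have := congrArg (fun z => hermForm 6 F 2 z q) hA3
    simp only [herm_add_left, herm_smul_left, hqq, hpq, mul_one, mul_zero, zero_add, herm_zero_left] at this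
    exact this
  -- `c1 = c2 = c3`
  have hx' : c1 + w * c2 + w ^ 2 * c3 = 0 := by
    linear_combination hx - (c1 + c2 + c3) * hw + (c1 + w * c2 + w ^ 2 * c3) * h22
  have hy' : c1 + w ^ 2 * c2 + w * c3 = 0 := by
    linear_combination hy - (c1 + c2 + c3) * hw - (c2 + c3) * hw3 + (c1 + w ^ 2 * c2 + w * c3) * h22
  have h23 : c2 + c3 = 0 := by linear_combination (c2 + c3) * hw - hx' - hy' + c1 * h22
  have h12 : c2 = c1 := by
    linear_combination hx' - w ^ 2 * h23 - c2 * hw + (w ^ 2 * c2 + c2 - c1) * h22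
  have hw1 : w + 1 ≠ 0 := by
    intro h
    apply one_ne_zero (α := F)
    linear_combination hw - w * h
  have hAp1 : act A p = c1 • p := by
    have e1 : (w + 1) • act A p = (w + 1) • (c1 • p) := by
      rw [hAp, h12]
      have : (c1 * w + c1) • p + (c1 * w + c1 * w) • q = (w + 1) • (c1 • p) + (2 * (c1 * w)) • q := by module
      rw [this, h22, zero_mul, zero_smul, add_zero]
    exact smul_right_injective _ hw1 e1
  have hAq1 : act A q = c1 • q := by
    have e1 : (w + 1) • act A q = (w + 1) • (c1 • q) := by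
      rw [hAq, h12]
      have : (c1 + c1) • p + (c1 + c1 * w) • q = (w + 1) • (c1 • q) + (2 * c1) • p := by module
      rw [this, h22, zero_mul, zero_smul, add_zero]
    exact smul_right_injective _ hw1 e1
  have hbb : ∀ i j : Fin 2, hermForm 6 F 2 ((![p, q] : Fin 2 → (Fin 6 → F)) i) ((![p, q] : Fin 2 → (Fin 6 → F)) j) =
      if i = j then 1 else 0 := by
    intro i j
    fin_cases i <;> fin_cases j
    · exact hpp
    · exact hpq
    · exact hqp
    · exact hqq
  have hrank2 : ∀ W : Submodule F (Fin 6 → F), p ∈ W → q ∈ W → finrank F W ≤ 2 →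
      ∀ v ∈ W, v = hermForm 6 F 2 v p • p + hermForm 6 F 2 v q • q := by
    intro W hpW hqW hW v hv
    have hbW : ∀ i : Fin 2, (![p, q] : Fin 2 → (Fin 6 → F)) i ∈ W := by
      intro i
      fin_cases i
      · exact hpW
      · exact hqW
    have hli := linearIndependent_of_orthonormal hbb
    have h5 : Submodule.span F (Set.range (![p, q] : Fin 2 → (Fin 6 → F))) ≤ W := by
      rw [Submodule.span_le]
      rintro _ ⟨i, rfl⟩
      exact hbW i
    have h6 := Submodule.finrank_mono h5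
    rw [finrank_span_eq_card hli, Fintype.card_fin] at h6
    have h7 : finrank F W = Fintype.card (Fin 2) := by rw [Fintype.card_fin]; omega
    have h8 := eq_sum_of_orthonormal W h7 hbW hbb hv
    rw [Fin.sum_univ_two] at h8
    exact h8
  have hBA : ∀ v ∈ E B 1, act A v = c1 • v := by
    intro v hv
    have h5 := hrank2 (E B 1) hp hq (fix_five hF hB hB1) v hv
    rw [h5, act_add, act_smul, act_smul, hAp1, hAq1]
    module
  refine ⟨c1, ?_⟩
  by_contra hcon
  obtain ⟨c, hc3, hcne, hc⟩ : ∃ c : F, c ^ 3 = 1 ∧ c ≠ c1 ∧ E A c ≠ ⊥ := by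
    by_contra h8
    push Not at h8
    apply hcon
    refine eig_induction hF hA (P := fun v => act A v = c1 • v) (fun u v h1 h2 => ?_) (fun c hc v hv => ?_)
    · rw [act_add, h1, h2, smul_add]
    · by_cases hcc : c = c1
      · rw [← hcc]; exact mem_E.1 hv
      · have h9 := h8 c hc hcc
        rw [h9, Submodule.mem_bot] at hv
        rw [hv, act_zero, smul_zero]
  have hBc : B ∈ Subgroup.centralizer ({A} : Set (SU 6 F 2)) := by
    rw [Subgroup.mem_centralizer_singleton_iff]; exact hAB.symm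
  have h4 : 4 ≤ finrank F (E A c) := by
    by_contra h4
    apply hc
    rw [Submodule.eq_bot_iff]
    intro v hv
    have h5 := triv hF (r := 5) (by norm_num) (E A c) (nondeg hF hA)
      (not_dvd_GU hF (Or.inl ⟨rfl, by omega⟩)) hB (fun w hw => cent_E hBc hw) hv
    have h6 := hBA v (by rw [mem_E, one_smul]; exact h5)
    rw [mem_E.1 hv] at h6
    by_contra hv0
    exact hcne (smul_left_injective F hv0 h6)
  have hc10 : c1 ≠ 0 := by
    rintro rfl
    rw [zero_smul] at hAp1
    have := herm_act A p p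
    rw [hAp1, hpp, herm_zero_left] at this
    exact zero_ne_one this
  have hc13 : c1 ^ 3 = 1 := cube_of_ne hF hc10
  have hpE : p ∈ E A c1 := hAp1
  have hqE : q ∈ E A c1 := hAq1
  have hnd := nondeg hF hA (a := c)
  have hperp := finrank_hermPerp_of_nondeg hF (E A c) hnd
  have hpP : p ∈ (hermPerp 2 (E A c : Set (Fin 6 → F)) : Submodule F (Fin 6 → F)) := fun v hv =>
    orth hc3 hcne.symm hpE hv
  have hqP : q ∈ (hermPerp 2 (E A c : Set (Fin 6 → F)) : Submodule F (Fin 6 → F)) := fun v hv =>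
    orth hc3 hcne.symm hqE hv
  have hPsum := hrank2 _ hpP hqP (by omega)
  have hAv : ∀ v, act A v = c • v + ((c1 - c) * hermForm 6 F 2 v p) • p + ((c1 - c) * hermForm 6 F 2 v q) • q := by
    intro v
    obtain ⟨u, hu, t, ht, rfl⟩ := exists_add_perp hF (E A c) hnd v
    have hup : hermForm 6 F 2 u p = 0 := herm_eq_zero_swap hF (hpP u hu)
    have huq : hermForm 6 F 2 u q = 0 := herm_eq_zero_swap hF (hqP u hu)
    have ht1 := hPsum t ht
    rw [act_add, mem_E.1 hu, herm_add_left, herm_add_left, hup, huq, zero_add, zero_add]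
    conv_lhs => rw [ht1, act_add, act_smul, act_smul, hAp1, hAq1]
    conv_rhs => rw [smul_add]
    conv_rhs => enter [1, 1, 2]; rw [ht1]
    module
  have hc0 := ne_zero_of_cube hc3
  have hdet : (mat A).det = 1 := A.1.2
  have hmat : mat A = c • (Cfsg.Agent.ClassicalGeometry.UnitTransv.rankOne 2 ((c⁻¹ * (c1 - c)) • p) p *
      Cfsg.Agent.ClassicalGeometry.UnitTransv.rankOne 2 ((c⁻¹ * (c1 - c)) • q) q) := by
    apply Matrix.mulVec_injective
    funext v
    rw [Matrix.smul_mulVec, ← Matrix.mulVec_mulVec, Cfsg.Agent.ClassicalGeometry.UnitTransv.rankOne_mulVec,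
      Cfsg.Agent.ClassicalGeometry.UnitTransv.rankOne_mulVec]
    have h9 := hAv v
    rw [act_def] at h9
    rw [h9, herm_add_left, herm_smul_left, herm_smul_left, hqp, mul_zero, mul_zero, add_zero, smul_add, smul_add,
      smul_smul, smul_smul, smul_smul, smul_smul]
    have h10 : c * hermForm 6 F 2 v p * (c⁻¹ * (c1 - c)) = (c1 - c) * hermForm 6 F 2 v p := by
      field_simp
    have h11 : c * hermForm 6 F 2 v q * (c⁻¹ * (c1 - c)) = (c1 - c) * hermForm 6 F 2 v q := by
      field_simp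
    rw [h10, h11]
    abel
  rw [hmat, Matrix.det_smul, Matrix.det_mul, Cfsg.Agent.ClassicalGeometry.UnitTransv.det_rankOne,
    Cfsg.Agent.ClassicalGeometry.UnitTransv.det_rankOne, herm_smul_left, herm_smul_left, hpp, hqq,
    Fintype.card_fin] at hdet
  have h12' : c ^ 6 = 1 := by rw [show (6 : ℕ) = 3 * 2 from rfl, pow_mul, hc3, one_pow]
  rw [h12', one_mul, mul_one] at hdet
  field_simp at hdet
  -- `c1 ^ 2 = c ^ 2`
  have h13 : c1 ^ 2 = c ^ 2 := by linear_combination hdet
  apply hcne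
  have h14 : (c - c1) ^ 2 = 0 := by linear_combination (c ^ 2 - c * c1) * h22 + h13
  exact sub_eq_zero.1 (pow_eq_zero_iff (by norm_num) |>.1 h14)

/-- if `A ∈ SU₆(2)` and `A ^ 3` is a scalar then `A ^ 3 = 1` -/
theorem cube_scalar {A : SU 6 F 2} {l : F} (hA : ∀ v, act (A ^ 3) v = l • v) : l = 1 := by
  classical
  by_contra hl
  have hM : (mat A) ^ 3 = l • (1 : Matrix (Fin 6) (Fin 6) F) := by
    have h1 : mat (A ^ 3) = (mat A) ^ 3 := rfl
    rw [← h1]
    apply Matrix.mulVec_injective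
    funext v
    rw [Matrix.smul_mulVec, Matrix.one_mulVec]
    exact hA v
  set M := mat A with hMdef
  have hdet : M.det = 1 := A.1.2
  have hl0 : l ≠ 0 := by
    rintro rfl
    rw [zero_smul] at hM
    have := congrArg Matrix.det hM
    rw [Matrix.det_pow, hdet, Matrix.det_zero, one_pow] at this
    exact one_ne_zero this
  -- the polynomial `X ^ 3 - l` is irreducible
  set f : Polynomial F := Polynomial.X ^ 3 - Polynomial.C l with hf
  have hfm : f.Monic := Polynomial.monic_X_pow_sub_C l (by norm_num)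
  have hfd : f.natDegree = 3 := Polynomial.natDegree_X_pow_sub_C
  have hirr : Irreducible f := by
    apply Polynomial.irreducible_of_degree_le_three_of_not_isRoot
    · rw [hfd]; decide
    · intro c hc
      rw [Polynomial.IsRoot, hf, Polynomial.eval_sub, Polynomial.eval_pow, Polynomial.eval_X,
        Polynomial.eval_C] at hc
      by_cases hc0 : c = 0
      · rw [hc0] at hc
        apply hl0
        linear_combination -hc
      · rw [cube_of_ne hF hc0] at hc
        apply hl
        linear_combination -hc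
  -- the characteristic polynomial divides its sixth power
  have hdvd : M.charpoly ∣ f ^ 6 := by
    set x : Matrix (Fin 6) (Fin 6) (Polynomial F) := Matrix.scalar (Fin 6) (Polynomial.X : Polynomial F) with hx
    set N : Matrix (Fin 6) (Fin 6) (Polynomial F) := (Polynomial.C : F →+* Polynomial F).mapMatrix M with hN
    have hc : Commute x N := Matrix.scalar_commute _ (fun r => Commute.all _ _) _
    have h1 : (x - N) * (x ^ 2 + x * N + N ^ 2) = x ^ 3 - N ^ 3 := by
      have h2 : N * x = x * N := hc.eq.symm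
      have h3 : N * x ^ 2 = x ^ 2 * N := (hc.symm.pow_right 2).eq
      have h4 : N * (x * N) = x * N ^ 2 := by rw [← mul_assoc, h2, mul_assoc, pow_two]
      rw [sub_mul, mul_add, mul_add, mul_add, mul_add, h3, h4, pow_succ x 2, pow_succ N 2, ← pow_succ' x 2,
        ← mul_assoc x x N, ← pow_two x, ← pow_succ' N 2, pow_succ x 2, pow_succ N 2]
      abel
    have h2 : x ^ 3 - N ^ 3 = Matrix.scalar (Fin 6) f := by
      have h3 : N ^ 3 = Matrix.scalar (Fin 6) (Polynomial.C l) := by
        rw [hN, ← map_pow, hM]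
        ext i j
        simp only [RingHom.mapMatrix_apply, Matrix.map_apply, Matrix.smul_apply, Matrix.one_apply, Matrix.scalar_apply,
          Matrix.diagonal_apply, smul_eq_mul]
        split_ifs <;> simp
      rw [h3, hx, ← map_pow, ← map_sub, hf]
    have h3 : M.charpoly * (x ^ 2 + x * N + N ^ 2).det = f ^ 6 := by
      have h4 := congrArg Matrix.det h1
      have h5 : (x - N).det = M.charpoly := rfl
      have h6 : (Matrix.scalar (Fin 6) f).det = f ^ 6 := by
        rw [Matrix.scalar_apply, Matrix.det_diagonal, Finset.prod_const, Finset.card_univ, Fintype.card_fin]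
      rw [Matrix.det_mul, h5, h2, h6] at h4
      exact h4
    exact Dvd.intro _ h3
  obtain ⟨i, -, hi⟩ := (dvd_prime_pow hirr.prime 6).1 hdvd
  have h1 : M.charpoly = f ^ i := Polynomial.eq_of_monic_of_associated M.charpoly_monic (hfm.pow i) hi
  have h2 : i = 2 := by
    have h3 := congrArg Polynomial.natDegree h1
    rw [Matrix.charpoly_natDegree_eq_dim, hfm.natDegree_pow, hfd, Fintype.card_fin] at h3
    omega
  have h3 := M.det_eq_sign_charpoly_coeff
  rw [h1, h2, hdet, Fintype.card_fin, Polynomial.coeff_zero_eq_eval_zero, Polynomial.eval_pow, hf,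
    Polynomial.eval_sub, Polynomial.eval_pow, Polynomial.eval_X, Polynomial.eval_C] at h3
  have h4 : l ^ 2 = 1 := by
    rw [h3]; ring
  apply hl
  have h5 := cube_of_ne hF hl0
  calc l = l ^ 3 * l⁻¹ ^ 2 := by field_simp
    _ = (l ^ 2)⁻¹ := by rw [h5, one_mul, inv_pow]
    _ = 1 := by rw [h4, inv_one]

end Cfsg.Agent.LThreeFi22.Lin

end

-- merged: Cfsg.Agent.LThreeFi22.Coord
section

/-!
# Elements of order 3, 5, 7, 11 of a double cover of `PSU₆(2)` with labelled transpositions (helper51)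
-/

set_option autoImplicit false
set_option linter.unusedSectionVars false

namespace Cfsg.Agent.LThreeFi22.Coord

open Cfsg Cfsg.Agent.LieClassical.HermBasic Cfsg.Agent.LieClassical.HermSiegel
open Cfsg.Agent.LThreeU7 (E mem_E)
open Cfsg.Agent.R01.Lifts Cfsg.Agent.R01.Label
open Cfsg.Agent.ClassicalGeometry.UnitAutBasic (pr pr_surjective exists_scalar_of_pr_eq pr_eq_of_scalar)
open Module

variable {F : Type*} [Field F] [Fintype F]

section Scalars

variable (hF : Fintype.card F = 2 ^ 2)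
include hF

theorem scalar_of_pr_one {g : SU 6 F 2} (h : pr 6 F 2 g = 1) : ∃ c : F, c ^ 3 = 1 ∧ ∀ v, act g v = c • v := by
  obtain ⟨c, hc, hx⟩ := exists_scalar_of_pr_eq (g := (1 : SU 6 F 2)) (g' := g) hF (by norm_num) (by rw [h, map_one])
  refine ⟨c, by rw [pow_succ', hc], fun v => ?_⟩
  have := hx v
  rwa [act_one] at this

theorem pr_one_of_scalar {g : SU 6 F 2} {c : F} (h : ∀ v, act g v = c • v) : pr 6 F 2 g = 1 := by
  have h1 : pr 6 F 2 (1 : SU 6 F 2) = pr 6 F 2 g := pr_eq_of_scalar (c := c) (fun x => by rw [act_one]; exact h x)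
  rw [← h1, map_one]

theorem cube_of_pr_one {g : SU 6 F 2} (h : pr 6 F 2 g = 1) : g ^ 3 = 1 := by
  obtain ⟨c, hc, hx⟩ := scalar_of_pr_one hF h
  apply ext_act
  intro v
  rw [pow_succ, pow_two, act_mul, act_mul, hx, hx, hx, act_one, smul_smul, smul_smul]
  have : c * c * c = 1 := by rw [← hc]; ring
  rw [this, one_smul]

theorem lift_comm {r : ℕ} (hr : Nat.Coprime r 3) {A B : SU 6 F 2} (hB : B ^ r = 1)
    (h : pr 6 F 2 A * pr 6 F 2 B = pr 6 F 2 B * pr 6 F 2 A) : A * B = B * A := by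
  have h1 : pr 6 F 2 (A * B * A⁻¹ * B⁻¹) = 1 := by
    rw [map_mul, map_mul, map_mul, map_inv, map_inv, h]; group
  have h2 : A * B * A⁻¹ * B⁻¹ ∈ Subgroup.center (SU 6 F 2) := by
    obtain ⟨c, -, hx⟩ := scalar_of_pr_one hF h1
    exact Cfsg.Agent.ClassicalGeometry.UnitAutBasic.mem_center_of_scalar hx
  set w := A * B * A⁻¹ * B⁻¹ with hw
  have hw3 : w ^ 3 = 1 := cube_of_pr_one hF h1
  have hwB : Commute w B := (Subgroup.mem_center_iff.1 h2 B).symm
  have h3 : w * B = A * B * A⁻¹ := by rw [hw]; group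
  have hwr : w ^ r = 1 := by
    have h4 : (w * B) ^ r = 1 := by rw [h3, conj_pow, hB, mul_one, mul_inv_cancel]
    rw [hwB.mul_pow, hB, mul_one] at h4
    exact h4
  have h5 : orderOf w ∣ 1 := by
    rw [← hr]
    exact Nat.dvd_gcd (orderOf_dvd_of_pow_eq_one hwr) (orderOf_dvd_of_pow_eq_one hw3)
  have h6 : w = 1 := orderOf_eq_one_iff.1 (Nat.dvd_one.1 h5)
  rw [h6, one_mul] at h3
  exact (mul_inv_eq_iff_eq_mul.1 h3.symm)

end Scalars

variable {C : Type*} [Group C] {hF : Fintype.card F = 2 ^ 2} {π : C →* PSU 6 F 2} {z ε : C}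
  {lift : (Fin 6 → F) → C}

include hF in
theorem exists_lift {r : ℕ} (hr : Nat.Coprime r 3) {c : C} (hc : c ^ r = 1) :
    ∃ B : SU 6 F 2, pr 6 F 2 B = π c ∧ B ^ r = 1 := by
  obtain ⟨g, hg⟩ := pr_surjective (π c)
  obtain ⟨m, hm1, hm2⟩ := Nat.chineseRemainder hr 1 0
  refine ⟨g ^ m, ?_, ?_⟩
  · rw [map_pow, hg, ← map_pow]
    congr 1
    have h1 : c ^ m = c ^ 1 := by
      rw [pow_eq_pow_iff_modEq]
      exact hm1.of_dvd (orderOf_dvd_of_pow_eq_one hc)
    rw [h1, pow_one]
  · have h1 : pr 6 F 2 (g ^ r) = 1 := by rw [map_pow, hg, ← map_pow, hc, map_one]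
    have h2 := cube_of_pr_one hF h1
    obtain ⟨k, hk⟩ := (Nat.modEq_zero_iff_dvd).1 hm2
    rw [← pow_mul, mul_comm, pow_mul, hk, pow_mul, h2, one_pow]

include hF in
theorem exists_lift_three {c : C} (hc : c ^ 3 = 1) : ∃ A : SU 6 F 2, pr 6 F 2 A = π c ∧ A ^ 3 = 1 := by
  obtain ⟨g, hg⟩ := pr_surjective (π c)
  refine ⟨g, hg, ?_⟩
  have h1 : pr 6 F 2 (g ^ 3) = 1 := by rw [map_pow, hg, ← map_pow, hc, map_one]
  obtain ⟨l, -, hl⟩ := scalar_of_pr_one hF h1
  have h2 := Lin.cube_scalar hF hl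
  apply ext_act
  intro v
  rw [hl, h2, one_smul, act_one]

section Main

variable (L : Lab hF π z ε lift)
include L

theorem fix_line {c : C} {B : SU 6 F 2} (hB : pr 6 F 2 B = π c) {v : Fin 6 → F} (hv0 : v ≠ 0)
    (hv : hermForm 6 F 2 v v = 0) (h : c * lift v = lift v * c) : ∃ a : F, a ≠ 0 ∧ act B v = a • v := by
  have h1 := L.conj c B v hB.symm hv0 hv
  have h2 : c * lift v * c⁻¹ = lift v := mul_inv_eq_iff_eq_mul.2 h
  rw [h2] at h1
  have h3 : hermForm 6 F 2 (act B v) (act B v) = 0 := by rw [herm_act, hv]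
  have h4 : act B v ≠ 0 := by
    intro h5
    apply hv0
    have := act_inv_act B v
    rw [h5, act_zero] at this
    exact this.symm
  obtain ⟨a, ha, h5⟩ := (L.lift_eq_iff hv h3 hv0 h4).1 h1
  exact ⟨a, ha, h5⟩

theorem fix_of_line {c : C} {B : SU 6 F 2} (hB : pr 6 F 2 B = π c) {v : Fin 6 → F} (hv0 : v ≠ 0)
    (hv : hermForm 6 F 2 v v = 0) (h : act B v = v) : c * lift v = lift v * c := by
  have h1 := L.conj c B v hB.symm hv0 hv
  have h2 : Cfsg.Agent.ClassicalGeometry.UnitTransv.act B v = v := h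
  rw [h2] at h1
  exact mul_inv_eq_iff_eq_mul.1 h1

theorem fix_vec {r : ℕ} (hr : Nat.Coprime r 3) {c : C} {B : SU 6 F 2} (hB : pr 6 F 2 B = π c) (hBr : B ^ r = 1)
    {v : Fin 6 → F} (hv0 : v ≠ 0) (hv : hermForm 6 F 2 v v = 0) (h : c * lift v = lift v * c) : act B v = v := by
  obtain ⟨a, ha, h1⟩ := fix_line L hB hv0 hv h
  have h2 : ∀ m : ℕ, act (B ^ m) v = a ^ m • v := by
    intro m
    induction m with
    | zero => rw [pow_zero, pow_zero, act_one, one_smul]
    | succ m ih => rw [pow_succ, act_mul, h1, act_smul, ih, smul_smul, pow_succ']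
  have h3 := h2 r
  rw [hBr, act_one] at h3
  have har : a ^ r = 1 := by
    by_contra hne
    apply hv0
    have : (a ^ r - 1) • v = 0 := by rw [sub_smul, one_smul, ← h3, sub_self]
    exact (smul_eq_zero.1 this).resolve_left (sub_ne_zero.2 hne)
  have ha3 : a ^ 3 = 1 := Cfsg.Agent.LThreeU7.cube_of_ne hF ha
  have h5 : orderOf a ∣ 1 := by
    rw [← hr]
    exact Nat.dvd_gcd (orderOf_dvd_of_pow_eq_one har) (orderOf_dvd_of_pow_eq_one ha3)
  have h6 : a = 1 := orderOf_eq_one_iff.1 (Nat.dvd_one.1 h5)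
  rw [h1, h6, one_smul]

theorem eq_one_of_pr {r : ℕ} (hr : Odd r) {c : C} (hc : c ^ r = 1) (h : π c = 1) : c = 1 := by
  rcases (L.ext.ker c).1 h with h1 | h1
  · exact h1
  · exfalso
    rw [h1] at hc
    obtain ⟨k, rfl⟩ := hr
    rw [pow_succ, pow_mul, pow_two, L.ext.zz, one_pow, one_mul] at hc
    exact L.ext.zne hc

/-- no transposition commutes with an element of order 7 or 11 -/
theorem iso7 {r : ℕ} (hr : r = 7 ∨ r = 11) {c : C} (hc : c ^ r = 1) (hc1 : c ≠ 1) {x : C} (hx : x ∈ Dset lift) :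
    c * x ≠ x * c := by
  have h3 : Nat.Coprime r 3 := by rcases hr with rfl | rfl <;> decide
  have hodd : Odd r := by rcases hr with rfl | rfl <;> decide
  obtain ⟨B, hB, hBr⟩ := exists_lift (hF := hF) (π := π) h3 hc
  have hB1 : B ≠ 1 := by
    rintro rfl
    exact hc1 (eq_one_of_pr L hodd hc (by rw [← hB, map_one]))
  obtain ⟨v, hv0, hv, rfl⟩ := hx
  intro h
  exact hv0 (Lin.fix_iso hF hr hBr hB1 (fix_vec L h3 hB hBr hv0 hv h) hv)

/-- no element of order three commutes with an element of order 7 or 11 -/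
theorem three7 {r : ℕ} (hr : r = 7 ∨ r = 11) {c : C} (hc : c ^ r = 1) (hc1 : c ≠ 1) {t : C} (ht : t ^ 3 = 1)
    (htc : t * c = c * t) : t = 1 := by
  have h3 : Nat.Coprime r 3 := by rcases hr with rfl | rfl <;> decide
  have hodd : Odd r := by rcases hr with rfl | rfl <;> decide
  obtain ⟨B, hB, hBr⟩ := exists_lift (hF := hF) (π := π) h3 hc
  obtain ⟨A, hA, hA3⟩ := exists_lift_three (hF := hF) (π := π) ht
  have hB1 : B ≠ 1 := by
    rintro rfl
    exact hc1 (eq_one_of_pr L hodd hc (by rw [← hB, map_one]))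
  have hAB : A * B = B * A := lift_comm hF h3 hBr (by rw [hA, hB, ← map_mul, htc, map_mul])
  obtain ⟨a, ha⟩ := Lin.scalar_of_comm hF hr hBr hB1 hA3 hAB
  exact eq_one_of_pr L (r := 3) (by decide) ht (by rw [← hA]; exact pr_one_of_scalar hF ha)

section five

variable {u : C} (hu : u ^ 5 = 1) (hu1 : u ≠ 1)
include hu hu1

theorem five_data [Finite C] (hD : (Dset lift).ncard = 693) : ∃ (B : SU 6 F 2) (p q : Fin 6 → F), pr 6 F 2 B = π u ∧ B ^ 5 = 1 ∧ B ≠ 1 ∧
    p ∈ E B 1 ∧ q ∈ E B 1 ∧ hermForm 6 F 2 p p = 1 ∧ hermForm 6 F 2 q q = 1 ∧ hermForm 6 F 2 p q = 0 ∧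
    hermForm 6 F 2 q p = 0 ∧ 3 ≤ {x | x ∈ Dset lift ∧ u * x = x * u}.ncard ∧
    ∀ v ∈ E B 1, v ≠ 0 → hermForm 6 F 2 v v = 0 → ∃ c t : F, c ≠ 0 ∧ t ^ 3 = 1 ∧ v = c • (p + t • q) := by
  have h3 : Nat.Coprime 5 3 := by decide
  obtain ⟨B, hB, hBr⟩ := exists_lift (hF := hF) (π := π) h3 hu
  have hB1 : B ≠ 1 := by
    rintro rfl
    exact hu1 (eq_one_of_pr L (r := 5) (by decide) hu (by rw [← hB, map_one]))
  have hmod := fix_modEq (r := 5) (by norm_num) hu (S := Dset lift) (fun s hs => L.conj_mem hs u)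
  rw [hD] at hmod
  have hge : 3 ≤ {x | x ∈ Dset lift ∧ u * x = x * u}.ncard := by
    have : 693 % 5 = {x | x ∈ Dset lift ∧ u * x = x * u}.ncard % 5 := hmod
    omega
  have hnd := Lin.fix_nondeg hF (r := 5) (by decide) hBr
  have hle := Lin.fix_five hF hBr hB1
  have h2 : finrank F (E B 1) = 2 := by
    by_contra hne
    have hle1 : finrank F (E B 1) ≤ 1 := by omega
    have hemp : {x | x ∈ Dset lift ∧ u * x = x * u} = ∅ := by
      rw [Set.eq_empty_iff_forall_notMem]
      rintro x ⟨⟨v, hv0, hv, rfl⟩, hx⟩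
      refine hv0 (Lin.no_iso hF hnd hle1 ?_ hv)
      rw [mem_E, one_smul]
      exact fix_vec L h3 hB hBr hv0 hv hx
    rw [hemp, Set.ncard_empty] at hge
    omega
  obtain ⟨p, hp, q, hq, hpp, hqq, hpq, hqp, -, hiso⟩ := Lin.plane hF hnd h2
  exact ⟨B, p, q, hB, hBr, hB1, hp, hq, hpp, hqq, hpq, hqp, hge, hiso⟩

theorem iso5 [Finite C] (hD : (Dset lift).ncard = 693) : {x | x ∈ Dset lift ∧ u * x = x * u}.ncard = 3 ∧
    ∀ x ∈ Dset lift, ∀ y ∈ Dset lift, u * x = x * u → u * y = y * u → x * y = y * x → x = y := by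
  have h3 : Nat.Coprime 5 3 := by decide
  obtain ⟨B, p, q, hB, hBr, hB1, hp, hq, hpp, hqq, hpq, hqp, hge, hiso⟩ := five_data L hu hu1 hD
  have h22 := Cfsg.Agent.LThreeU7.two_eq_zero hF
  have hpt : ∀ t : F, t ^ 3 = 1 → p + t • q ≠ 0 ∧ hermForm 6 F 2 (p + t • q) (p + t • q) = 0 := by
    intro t ht
    constructor
    · intro h
      have := congrArg (fun v => hermForm 6 F 2 v p) h
      simp only [herm_add_left, herm_smul_left, hpp, hqp, mul_zero, add_zero, herm_zero_left] at this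
      exact one_ne_zero this
    · rw [herm_add_left, herm_add_right hF, herm_add_right hF, herm_smul_left, herm_smul_left, herm_smul_right,
        herm_smul_right, hpp, hqq, hpq, hqp]
      linear_combination ht + h22
  have hx : ∀ x ∈ Dset lift, u * x = x * u → ∃ t : F, t ^ 3 = 1 ∧ x = lift (p + t • q) := by
    rintro x ⟨v, hv0, hv, rfl⟩ hux
    obtain ⟨c, t, hc, ht, hvt⟩ := hiso v (by rw [mem_E, one_smul]; exact fix_vec L h3 hB hBr hv0 hv hux) hv0 hv
    refine ⟨t, ht, ?_⟩
    rw [hvt, L.smul _ c (hpt t ht).2 hc]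
  constructor
  · apply le_antisymm _ hge
    classical
    -- at most three points
    have h5 : {x | x ∈ Dset lift ∧ u * x = x * u} ⊆ (fun t : F => lift (p + t • q)) '' {t : F | t ≠ 0} := by
      rintro x ⟨h6, h7⟩
      obtain ⟨t, ht, rfl⟩ := hx x h6 h7
      exact ⟨t, Cfsg.Agent.LThreeU7.ne_zero_of_cube ht, rfl⟩
    have h8 : ({t : F | t ≠ 0} : Set F).ncard = 3 := by
      have h9 : ({t : F | t ≠ 0} : Set F) = Set.univ \ {0} := by
        ext t; simp
      rw [h9, Set.ncard_sdiff_singleton_of_mem (Set.mem_univ _), Set.ncard_univ, Nat.card_eq_fintype_card, hF]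
      norm_num
    calc {x | x ∈ Dset lift ∧ u * x = x * u}.ncard ≤ ((fun t : F => lift (p + t • q)) '' {t : F | t ≠ 0}).ncard :=
          Set.ncard_le_ncard h5 (Set.toFinite _)
      _ ≤ ({t : F | t ≠ 0} : Set F).ncard := Set.ncard_image_le (Set.toFinite _)
      _ = 3 := h8
  · intro x hxD y hyD hux huy hxy
    obtain ⟨t, ht, rfl⟩ := hx x hxD hux
    obtain ⟨s, hs, rfl⟩ := hx y hyD huy
    have h5 := (L.commute_iff (hpt t ht).2 (hpt s hs).2 (hpt t ht).1 (hpt s hs).1).1 hxy
    rw [herm_add_left, herm_add_right hF, herm_add_right hF, herm_smul_left, herm_smul_left, herm_smul_right,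
      herm_smul_right, hpp, hqq, hpq, hqp] at h5
    have h6 : t * s ^ 2 = 1 := by linear_combination h5 - h22
    have h7 : t = s := by
      calc t = t * s ^ 3 := by rw [hs, mul_one]
        _ = (t * s ^ 2) * s := by ring
        _ = s := by rw [h6, one_mul]
    rw [h7]

theorem three5 [Finite C] (hD : (Dset lift).ncard = 693) {t : C} (ht : t ^ 3 = 1) (htu : t * u = u * t)
    (h : ∀ x ∈ Dset lift, u * x = x * u → t * x = x * t) : t = 1 := by
  have h3 : Nat.Coprime 5 3 := by decide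
  obtain ⟨B, p, q, hB, hBr, hB1, hp, hq, hpp, hqq, hpq, hqp, hge, hiso⟩ := five_data L hu hu1 hD
  have h22 := Cfsg.Agent.LThreeU7.two_eq_zero hF
  obtain ⟨A, hA, hA3⟩ := exists_lift_three (hF := hF) (π := π) ht
  have hAB : A * B = B * A := lift_comm hF h3 hBr (by rw [hA, hB, ← map_mul, htu, map_mul])
  have hpt : ∀ t : F, t ^ 3 = 1 → p + t • q ≠ 0 ∧ hermForm 6 F 2 (p + t • q) (p + t • q) = 0 := by
    intro t ht
    constructor
    · intro h
      have := congrArg (fun v => hermForm 6 F 2 v p) h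
      simp only [herm_add_left, herm_smul_left, hpp, hqp, mul_zero, add_zero, herm_zero_left] at this
      exact one_ne_zero this
    · rw [herm_add_left, herm_add_right hF, herm_add_right hF, herm_smul_left, herm_smul_left, herm_smul_right,
        herm_smul_right, hpp, hqq, hpq, hqp]
      linear_combination ht + h22
  have hfix : ∀ s : F, s ^ 3 = 1 → ∃ c : F, act A (p + s • q) = c • (p + s • q) := by
    intro s hs
    obtain ⟨h0, hi⟩ := hpt s hs
    have hBs : act B (p + s • q) = p + s • q := by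
      rw [mem_E, one_smul] at hp hq
      rw [act_add, act_smul, hp, hq]
    have h5 := fix_of_line L hB h0 hi hBs
    have h6 := h _ ⟨_, h0, hi, rfl⟩ h5
    obtain ⟨c, -, hc⟩ := fix_line L hA h0 hi h6
    exact ⟨c, hc⟩
  obtain ⟨w, hw3, -, hw⟩ := Cfsg.Agent.LThreeU7.exists_omega hF
  obtain ⟨c1, h1⟩ := hfix 1 (one_pow 3)
  obtain ⟨c2, h2⟩ := hfix w hw3
  obtain ⟨c3, h3'⟩ := hfix (w ^ 2) (by rw [← pow_mul, mul_comm, pow_mul, hw3, one_pow])
  rw [one_smul] at h1
  obtain ⟨a, ha⟩ := Lin.scalar_five hF hBr hB1 hA3 hAB hw hp hq hpp hqq hpq h1 h2 h3'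
  exact eq_one_of_pr L (r := 3) (by decide) ht (by rw [← hA]; exact pr_one_of_scalar hF ha)

end five

end Main

end Cfsg.Agent.LThreeFi22.Coord

end

-- merged: Cfsg.Agent.LThreeFi22.Count
section

/-!
# Elements of order three commuting with elements of order 5, 7, 11 (helper51)

* `eleven` : no element of order three commutes with an element of order 11;
* `seven`, `seven_card`, `five`, `five_card` : an element of order three commuting with an element of order 5 or 7 is
  a product of two noncommuting transpositions.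
-/

set_option autoImplicit false
set_option linter.unusedSectionVars false

namespace Cfsg.Agent.LThreeFi22

universe v

variable {K : Type v} [Group K] {T : Set K}

/-- the transpositions commuting with `y` -/
def Fx (T : Set K) (y : K) : Set K := {t | t ∈ T ∧ y * t = t * y}

/-- `x` is a product of two noncommuting transpositions -/
def Is3A (T : Set K) (x : K) : Prop := ∃ a ∈ T, ∃ b ∈ T, a * b ≠ b * a ∧ x = a * b

theorem conj_of_comm {x y t : K} (h : x * y = y * x) (ht : y * t = t * y) :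
    y * (x * t * x⁻¹) = x * t * x⁻¹ * y := by
  calc y * (x * t * x⁻¹) = (y * x) * t * x⁻¹ := by group
    _ = x * (y * t) * x⁻¹ := by rw [← h]; group
    _ = x * t * (y * x⁻¹) := by rw [ht]; group
    _ = x * t * (x⁻¹ * x * (y * x⁻¹)) := by group
    _ = x * t * (x⁻¹ * (x * y) * x⁻¹) := by group
    _ = x * t * (x⁻¹ * (y * x) * x⁻¹) := by rw [h]
    _ = _ := by group

theorem cube_of_braid {a b : K} (ha : a * a = 1) (hb : b * b = 1) (h : a * b * a = b * a * b) : (a * b) ^ 3 = 1 := by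
  calc (a * b) ^ 3 = (a * b * a) * (b * a * b) := by rw [pow_succ, pow_two]; group
    _ = (a * b * a) * (a * b * a) := by rw [h]
    _ = a * b * (a * a) * b * a := by group
    _ = a * (b * b) * a := by rw [ha]; group
    _ = 1 := by rw [hb, mul_one, ha]

/-- the group `B(2,3)` -/
theorem burnside {a b : K} (ha : a ^ 3 = 1) (hb : b ^ 3 = 1) (hab : (a * b) ^ 3 = 1) (hab' : (a⁻¹ * b) ^ 3 = 1) :
    (a * b * a⁻¹ * b⁻¹) ^ 3 = 1 ∧ a⁻¹ * b⁻¹ * a * b = a * b * a⁻¹ * b⁻¹ := by
  have ha2 : a * a = a⁻¹ := by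
    rw [eq_inv_iff_mul_eq_one, ← pow_two, ← pow_succ]; exact ha
  have ha3 : a⁻¹ * a⁻¹ = a := by rw [← mul_inv_rev, ha2, inv_inv]
  have hb2 : b * b = b⁻¹ := by
    rw [eq_inv_iff_mul_eq_one, ← pow_two, ← pow_succ]; exact hb
  set b1 := a * b * a⁻¹ with hb1
  set b2 := a⁻¹ * b * a with hb2'
  have h1 : b1 * b2 * b = 1 := by
    calc b1 * b2 * b = a * b * (a⁻¹ * a⁻¹) * b * a * b := by rw [hb1, hb2']; group
      _ = a * b * a * b * a * b := by rw [ha3]
      _ = (a * b) ^ 3 := by rw [pow_succ, pow_two]; group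
      _ = 1 := hab
  have h2 : b2 * b1 * b = 1 := by
    calc b2 * b1 * b = a⁻¹ * b * (a * a) * b * a⁻¹ * b := by rw [hb1, hb2']; group
      _ = a⁻¹ * b * a⁻¹ * b * a⁻¹ * b := by rw [ha2]
      _ = (a⁻¹ * b) ^ 3 := by rw [pow_succ, pow_two]; group
      _ = 1 := hab'
  have h12 : b1 * b2 = b2 * b1 := mul_right_cancel (h1.trans h2.symm)
  have hbi : b = (b1 * b2)⁻¹ := eq_inv_of_mul_eq_one_right h1
  have hc1 : Commute b1 b := by
    rw [hbi]
    apply Commute.inv_right
    exact (Commute.refl b1).mul_right h12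
  have hb13 : b1 ^ 3 = 1 := by
    rw [hb1, conj_pow, hb, mul_one, mul_inv_cancel]
  have hc : a * b * a⁻¹ * b⁻¹ = b1 * b⁻¹ := rfl
  have hb2i : b2⁻¹ = b * b1 := by
    have h3 : b2⁻¹ = b1 * b := by
      rw [h12] at h1
      have : b2 * (b1 * b) = 1 := by rw [← mul_assoc]; exact h1
      exact inv_eq_of_mul_eq_one_right this
    rw [h3]; exact hc1.eq
  refine ⟨?_, ?_⟩
  · rw [hc, hc1.inv_right.mul_pow, hb13, inv_pow, hb, inv_one, mul_one]
  · have h3 : a⁻¹ * b⁻¹ * a * b = b2⁻¹ * b := by rw [hb2']; group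
    rw [h3, hb2i, hc, hc1.eq.symm, mul_assoc, hb2]

theorem eq_of_ncard_three {S : Set K} [Finite K] (hS : S.ncard = 3) {a b c e : K} (ha : a ∈ S) (hb : b ∈ S) (hc : c ∈ S)
    (he : e ∈ S) (hab : a ≠ b) (hac : a ≠ c) (hbc : b ≠ c) (hea : e ≠ a) (heb : e ≠ b) : e = c := by
  by_contra hec
  have h1 : ({a, b, c, e} : Set K) ⊆ S := by
    rintro x (rfl | rfl | rfl | rfl)
    · exact ha
    · exact hb
    · exact hc
    · exact he
  have h2 := Set.ncard_le_ncard h1 (Set.toFinite _)
  have h3 : ({a, b, c, e} : Set K).ncard = 4 := by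
    rw [Set.ncard_insert_of_notMem, Set.ncard_insert_of_notMem, Set.ncard_pair (Ne.symm hec)]
    · rintro (h | h)
      · exact hbc h
      · exact heb h.symm
    · rintro (h | h | h)
      · exact hab h
      · exact hac h
      · exact hea h.symm
  omega

namespace Ctx

variable (C : Ctx K T)
include C

theorem fx_conj {x y t : K} (h : x * y = y * x) (ht : t ∈ Fx T y) : x * t * x⁻¹ ∈ Fx T y :=
  ⟨C.conj t ht.1 x, conj_of_comm h ht.2⟩

theorem fx_mod {r : ℕ} (hr : r.Prime) {y : K} (hy : y ^ r = 1) : 3510 ≡ (Fx T y).ncard [MOD r] := by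
  have := C.finite
  have h := fix_modEq hr hy (S := T) (fun s hs => C.conj s hs y)
  rw [C.ncard] at h
  exact h

theorem cube {a b : K} (ha : a ∈ T) (hb : b ∈ T) (h : a * b ≠ b * a) : (a * b) ^ 3 = 1 :=
  cube_of_braid (C.sq a ha) (C.sq b hb) ((C.three a ha b hb).resolve_left h)

theorem exists_mem {y : K} (h : (Fx T y).ncard ≠ 0) : ∃ d, d ∈ Fx T y := by
  by_contra hcon
  push Not at hcon
  apply h
  rw [Set.eq_empty_iff_forall_notMem.2 hcon, Set.ncard_empty]

/-! ### `r = 11` -/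

theorem eleven {y : K} (hy : y ^ 11 = 1) (hy1 : y ≠ 1) {x : K} (hx : x ^ 3 = 1) (hxy : x * y = y * x) : x = 1 := by
  have := C.finite
  have h1 := C.fx_mod (by norm_num : Nat.Prime 11) hy
  obtain ⟨d, hd⟩ := C.exists_mem (y := y) (by intro h; rw [h] at h1; revert h1; decide)
  have huniq : ∀ e ∈ Fx T y, e = d := by
    intro e he
    by_contra hne
    by_cases hc : d * e = e * d
    · exact C.iso7 11 (Or.inr rfl) y hy hy1 d hd.1 hd.2 e he.1 hne hc he.2
    · have h2 := (C.mu hd.1 he.1 hc).2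
      apply h2
      have h3 := fix_modEq (r := 11) (by norm_num) hy (S := {c | c ∈ T ∧ d * c = c * d ∧ e * c = c * e}) (by
        rintro s ⟨hs, hs1, hs2⟩
        exact ⟨C.conj s hs y, conj_of_comm hd.2 hs1, conj_of_comm he.2 hs2⟩)
      have h4 : {s | s ∈ {c | c ∈ T ∧ d * c = c * d ∧ e * c = c * e} ∧ y * s = s * y} = ∅ := by
        rw [Set.eq_empty_iff_forall_notMem]
        rintro s ⟨⟨hs, hs1, hs2⟩, hs3⟩
        refine C.iso7 11 (Or.inr rfl) y hy hy1 d hd.1 hd.2 s hs ?_ hs1 hs3
        rintro rfl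
        exact hc hs2.symm
      rw [h4, Set.ncard_empty] at h3
      exact (Nat.modEq_zero_iff_dvd).1 h3
  have h5 := huniq _ (C.fx_conj hxy hd)
  exact C.three7 11 (Or.inr rfl) y hy hy1 d hd.1 hd.2 x hx hxy (mul_inv_eq_iff_eq_mul.1 h5)

/-! ### `r = 7` -/

theorem fx_le {y : K} (hy : ∃ u ∈ T, y * u ≠ u * y) : (Fx T y).ncard ≤ 2101 := by
  have := C.finite
  obtain ⟨u, hu, hyu⟩ := hy
  have hT := C.ncard
  have hN := C.link u hu
  set B : Set K := {t | t ∈ Fx T y ∧ u * t ≠ t * u} with hB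
  have h1 : Fx T y ⊆ {c | c ∈ T ∧ c ≠ u ∧ u * c = c * u} ∪ B := by
    intro t ht
    by_cases hc : u * t = t * u
    · left
      refine ⟨ht.1, ?_, hc⟩
      rintro rfl
      exact hyu ht.2
    · exact Or.inr ⟨ht, hc⟩
  have h2 : B.ncard ≤ (T \ Fx T y).ncard := by
    refine Set.ncard_le_ncard_of_injOn (fun v => v * u * v) ?_ ?_ (Set.toFinite _)
    · rintro v ⟨⟨hv, hav⟩, hc⟩
      refine ⟨?_, fun h => ?_⟩
      · have h3 := C.conj u hu v
        rwa [C.inv hv] at h3
      · apply hyu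
        have h4 : y * (v * u * v) = v * u * v * y := h.2
        have h5 : v * (y * u) * v = v * (u * y) * v := by
          calc v * (y * u) * v = (v * y) * u * v := by group
            _ = y * (v * u * v) := by rw [← hav]; group
            _ = v * u * (v * y) := by rw [h4]; group
            _ = v * (u * y) * v := by rw [← hav]; group
        exact mul_left_cancel (mul_right_cancel h5)
    · rintro v ⟨⟨hv, hav⟩, hc⟩ w ⟨⟨hw, haw⟩, hc'⟩ h
      have h3 := (C.three u hu v hv).resolve_left hc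
      have h4 := (C.three u hu w hw).resolve_left hc'
      have h5 : u * v * u = u * w * u := by rw [h3, h4]; exact h
      exact mul_left_cancel (mul_right_cancel h5)
  have h3 : (T \ Fx T y).ncard = T.ncard - (Fx T y).ncard :=
    Set.ncard_sdiff (fun t ht => ht.1) (Set.toFinite _)
  have h4 : (Fx T y).ncard ≤ ({c | c ∈ T ∧ c ≠ u ∧ u * c = c * u} ∪ B).ncard := Set.ncard_le_ncard h1 (Set.toFinite _)
  have h5 := Set.ncard_union_le {c | c ∈ T ∧ c ≠ u ∧ u * c = c * u} B
  have h6 : (Fx T y).ncard ≤ T.ncard := Set.ncard_le_ncard (fun t ht => ht.1) (Set.toFinite _)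
  omega

theorem exists_link {d : K} (hd : d ∈ T) : ∃ c ∈ T, c ≠ d ∧ d * c = c * d := by
  by_contra hcon
  push Not at hcon
  have h := C.link d hd
  have h1 : {c | c ∈ T ∧ c ≠ d ∧ d * c = c * d} = ∅ :=
    Set.eq_empty_iff_forall_notMem.2 (fun c hc => hcon c hc.1 hc.2.1 hc.2.2)
  rw [h1, Set.ncard_empty] at h
  omega

theorem seven_comm {y : K} (hy : y ^ 7 = 1) (hy1 : y ≠ 1) {e f : K} (he : e ∈ Fx T y) (hf : f ∈ Fx T y)
    (h : e * f = f * e) : f = e := by
  by_contra hne
  exact C.iso7 7 (Or.inl rfl) y hy hy1 e he.1 he.2 f hf.1 hne h hf.2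

theorem seven_cube {y : K} (hy : y ^ 7 = 1) (hy1 : y ≠ 1) {e f : K} (he : e ∈ Fx T y) (hf : f ∈ Fx T y) :
    (e * f) ^ 3 = 1 := by
  by_cases h : e * f = f * e
  · have h1 := C.seven_comm hy hy1 he hf h
    rw [h1, C.sq e he.1, one_pow]
  · exact C.cube he.1 hf.1 h

theorem seven_ab {y : K} (hy : y ^ 7 = 1) (hy1 : y ≠ 1) {d e f : K} (hd : d ∈ Fx T y) (he : e ∈ Fx T y)
    (hf : f ∈ Fx T y) : (d * e) * (d * f) = (d * f) * (d * e) := by
  have dd := C.sq d hd.1
  have hdi := C.inv hd.1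
  have hei := C.inv he.1
  have hfi := C.inv hf.1
  have hded : d * e * d ∈ Fx T y := by
    have := C.fx_conj hd.2.symm he
    rwa [hdi] at this
  have a3 := C.seven_cube hy hy1 hd he
  have b3 := C.seven_cube hy hy1 hd hf
  have ab3 : (d * e * (d * f)) ^ 3 = 1 := by
    have := C.seven_cube hy hy1 hded hf
    rw [← mul_assoc]
    exact this
  have ainv : (d * e)⁻¹ = e * d := by rw [mul_inv_rev, hdi, hei]
  have binv : (d * f)⁻¹ = f * d := by rw [mul_inv_rev, hdi, hfi]
  have ab3' : ((d * e)⁻¹ * (d * f)) ^ 3 = 1 := by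
    have h1 : (d * e)⁻¹ * (d * f) = e * f := by
      rw [ainv]
      calc e * d * (d * f) = e * (d * d) * f := by group
        _ = e * f := by rw [dd, mul_one]
    rw [h1]
    exact C.seven_cube hy hy1 he hf
  obtain ⟨h1, h2⟩ := burnside a3 b3 ab3 ab3'
  set c := d * e * (d * f) * (d * e)⁻¹ * (d * f)⁻¹ with hc
  -- `c` commutes with `d`
  have hcd : c * d = d * c := by
    have h3 : d * c * d = (d * e)⁻¹ * (d * f)⁻¹ * (d * e) * (d * f) := by
      rw [hc, ainv, binv]
      calc d * (d * e * (d * f) * (e * d) * (f * d)) * d = (d * d) * e * d * f * e * d * f * (d * d) := by group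
        _ = e * d * f * (1 * e) * d * f := by rw [dd]; group
        _ = e * d * f * (d * d * e) * d * f := by rw [dd]
        _ = e * d * (f * d) * (d * e) * (d * f) := by group
    rw [h2] at h3
    calc c * d = (d * c * d) * d := by rw [h3]
      _ = d * c * (d * d) := by group
      _ = d * c := by rw [dd, mul_one]
  have hcy : c * y = y * c := by
    have h3 : Commute y (d * e) := Commute.mul_right hd.2 he.2
    have h4 : Commute y (d * f) := Commute.mul_right hd.2 hf.2
    have h5 : Commute y c := (((h3.mul_right h4).mul_right h3.inv_right).mul_right h4.inv_right)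
    exact h5.symm.eq
  have h3 := C.three7 7 (Or.inl rfl) y hy hy1 d hd.1 hd.2 c h1 hcy hcd
  rw [hc] at h3
  have h4 := mul_inv_eq_iff_eq_mul.1 h3
  rw [one_mul] at h4
  exact mul_inv_eq_iff_eq_mul.1 h4

theorem seven_card {y : K} (hy : y ^ 7 = 1) (hy1 : y ≠ 1) : (Fx T y).ncard = 3 := by
  have := C.finite
  have h1 := C.fx_mod (by norm_num : Nat.Prime 7) hy
  obtain ⟨d, hd⟩ := C.exists_mem (y := y) (by intro h; rw [h] at h1; revert h1; decide)
  have dd := C.sq d hd.1
  have hdi := C.inv hd.1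
  -- the subgroup
  let R : Subgroup K :=
    { carrier := {r | ∃ e ∈ Fx T y, r = d * e}
      one_mem' := ⟨d, hd, dd.symm⟩
      mul_mem' := by
        rintro _ _ ⟨e, he, rfl⟩ ⟨f, hf, rfl⟩
        have hr : y * (d * e) = d * e * y := (Commute.mul_right hd.2 he.2 : Commute y (d * e)).eq
        refine ⟨d * e * f * (d * e)⁻¹, C.fx_conj hr.symm hf, ?_⟩
        have hab := C.seven_ab hy hy1 hd he hf
        have a3 := C.seven_cube hy hy1 hd he
        have h2 : (d * e)⁻¹ * (d * e)⁻¹ = d * e := by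
          have h3 : d * e * (d * e) = (d * e)⁻¹ := by
            rw [eq_inv_iff_mul_eq_one, ← pow_two, ← pow_succ]; exact a3
          rw [← mul_inv_rev, h3, inv_inv]
        have h3 : d * (d * e) = (d * e)⁻¹ * d := by
          rw [mul_inv_rev, hdi, C.inv he.1]
          calc d * (d * e) = (d * d) * e := by group
            _ = e * (d * d) := by rw [dd, one_mul, mul_one]
            _ = e * d * d := by group
        symm
        calc d * (d * e * f * (d * e)⁻¹) = d * (d * e) * f * (d * e)⁻¹ := by group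
          _ = (d * e)⁻¹ * (d * f) * (d * e)⁻¹ := by rw [h3]; group
          _ = (d * e)⁻¹ * ((d * f) * (d * e)⁻¹) := by group
          _ = (d * e)⁻¹ * ((d * e)⁻¹ * (d * f)) := by
              rw [(show Commute (d * f) (d * e)⁻¹ from Commute.inv_right hab.symm).eq]
          _ = ((d * e)⁻¹ * (d * e)⁻¹) * (d * f) := by group
          _ = d * e * (d * f) := by rw [h2]
      inv_mem' := by
        rintro _ ⟨e, he, rfl⟩
        have hded : d * e * d ∈ Fx T y := by
          have := C.fx_conj hd.2.symm he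
          rwa [hdi] at this
        refine ⟨d * e * d, hded, ?_⟩
        rw [mul_inv_rev, hdi, C.inv he.1]
        calc e * d = (d * d) * e * d := by rw [dd, one_mul]
          _ = d * (d * e * d) := by group }
  have hR3 : IsPGroup 3 ↥R := by
    rintro ⟨_, e, he, rfl⟩
    refine ⟨1, Subtype.ext ?_⟩
    rw [pow_one]
    exact C.seven_cube hy hy1 hd he
  have : Fact (Nat.Prime 3) := ⟨Nat.prime_three⟩
  obtain ⟨k, hk⟩ := IsPGroup.iff_card.1 hR3
  have hcard : (Fx T y).ncard = 3 ^ k := by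
    rw [← hk]
    have h2 : (R : Set K) = (fun e => d * e) '' Fx T y := by
      ext r
      constructor
      · rintro ⟨e, he, rfl⟩
        exact ⟨e, he, rfl⟩
      · rintro ⟨e, he, rfl⟩
        exact ⟨e, he, rfl⟩
    have h3 : Nat.card ↥R = (R : Set K).ncard := rfl
    rw [h3, h2, Set.ncard_image_of_injective _ (fun a b h => mul_left_cancel h)]
  have hle : (Fx T y).ncard ≤ 2101 := by
    apply C.fx_le
    obtain ⟨c, hc, hcd, hdc⟩ := C.exists_link hd.1
    exact ⟨c, hc, C.iso7 7 (Or.inl rfl) y hy hy1 d hd.1 hd.2 c hc hcd hdc⟩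
  rw [hcard] at hle h1
  have hk7 : k < 7 := by
    by_contra hk7
    have : 3 ^ 7 ≤ 3 ^ k := Nat.pow_le_pow_right (by norm_num) (by omega)
    omega
  rw [hcard]
  interval_cases k <;> first | rfl | (exfalso; revert h1; decide)

/-- **an element of order three commuting with an element of order seven** -/
theorem seven {y : K} (hy : y ^ 7 = 1) (hy1 : y ≠ 1) {x : K} (hx : x ^ 3 = 1) (hx1 : x ≠ 1) (hxy : x * y = y * x) :
    Is3A T x := by
  have := C.finite
  have h3 := C.seven_card hy hy1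
  obtain ⟨d, hd⟩ := C.exists_mem (y := y) (by rw [h3]; norm_num)
  have dd := C.sq d hd.1
  have key : ∀ e ∈ Fx T y, x * e * x⁻¹ ≠ e := by
    intro e he h
    exact hx1 (C.three7 7 (Or.inl rfl) y hy hy1 e he.1 he.2 x hx hxy (mul_inv_eq_iff_eq_mul.1 h))
  obtain ⟨d', hd'⟩ : ∃ d', d' = x * d * x⁻¹ := ⟨_, rfl⟩
  have hd'm : d' ∈ Fx T y := by rw [hd']; exact C.fx_conj hxy hd
  have hne : d ≠ d' := by rw [hd']; exact (key d hd).symm
  have dd' := C.sq d' hd'm.1
  have hnc : d * d' ≠ d' * d := fun h => hne (C.seven_comm hy hy1 hd hd'm h).symm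
  have hbr := (C.three d hd.1 d' hd'm.1).resolve_left hnc
  have s3 := C.cube hd.1 hd'm.1 hnc
  obtain ⟨d'', hd''⟩ : ∃ d'', d'' = x * d' * x⁻¹ := ⟨_, rfl⟩
  have hd''m : d'' ∈ Fx T y := by rw [hd'']; exact C.fx_conj hxy hd'm
  have hdd'd : d * d' * d ∈ Fx T y := by
    have := C.fx_conj hd.2.symm hd'm
    rwa [C.inv hd.1] at this
  have n1 : d ≠ d * d' * d := by
    intro h
    apply hne
    have h2 : d * (d' * d) = d * 1 := by rw [mul_one, ← mul_assoc]; exact h.symm
    have h4 := mul_left_cancel h2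
    calc d = 1 * d := (one_mul d).symm
      _ = d' * d' * d := by rw [dd']
      _ = d' * (d' * d) := by group
      _ = d' := by rw [h4, mul_one]
  have n2 : d' ≠ d * d' * d := by
    intro h
    apply hnc
    calc d * d' = d * (d * d' * d) := by rw [← h]
      _ = (d * d) * d' * d := by group
      _ = d' * d := by rw [dd, one_mul]
  have n3 : d'' ≠ d' := by rw [hd'']; exact key d' hd'm
  have n4 : d'' ≠ d := by
    intro h
    apply key d hd
    -- `x ^ 2` fixes `d`
    have h2 : x * (x * d * x⁻¹) * x⁻¹ = d := by rw [← hd', ← hd'', h]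
    have h4 : x ^ 4 = x := by rw [pow_succ, hx, one_mul]
    have h5 : x ^ 2 * d * (x ^ 2)⁻¹ = d := by
      rw [pow_two]
      calc x * x * d * (x * x)⁻¹ = x * (x * d * x⁻¹) * x⁻¹ := by group
        _ = d := h2
    have h6 : x ^ 4 * d * (x ^ 4)⁻¹ = d := by
      have : x ^ 4 * d * (x ^ 4)⁻¹ = x ^ 2 * (x ^ 2 * d * (x ^ 2)⁻¹) * (x ^ 2)⁻¹ := by group
      rw [this, h5, h5]
    rwa [h4] at h6
  have h4 : d'' = d * d' * d := eq_of_ncard_three h3 hd hd'm hdd'd hd''m hne n1 n2 n4 n3
  -- `x` commutes with `s = d d'`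
  have hxs : x * (d * d') * x⁻¹ = d * d' := by
    calc x * (d * d') * x⁻¹ = (x * d * x⁻¹) * (x * d' * x⁻¹) := by group
      _ = d' * (d * d' * d) := by rw [← hd', ← hd'', h4]
      _ = d' * (d' * d * d') := by rw [hbr]
      _ = (d' * d') * d * d' := by group
      _ = d * d' := by rw [dd', one_mul]
  have hxs' : Commute (d * d') x := (mul_inv_eq_iff_eq_mul.1 hxs).symm
  have z3 : ((d * d')⁻¹ * x) ^ 3 = 1 := by
    rw [hxs'.inv_left.mul_pow, inv_pow, s3, hx, inv_one, one_mul]
  have zy : (d * d')⁻¹ * x * y = y * ((d * d')⁻¹ * x) := by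
    have h5 : Commute y (d * d') := Commute.mul_right hd.2 hd'm.2
    exact (h5.inv_right.mul_right hxy.symm).symm.eq
  have zd : (d * d')⁻¹ * x * d = d * ((d * d')⁻¹ * x) := by
    have h5 : x * d = d' * x := mul_inv_eq_iff_eq_mul.1 hd'.symm
    rw [mul_inv_rev, C.inv hd.1, C.inv hd'm.1]
    calc d' * d * x * d = d' * d * (x * d) := by group
      _ = (d' * d * d') * x := by rw [h5]; group
      _ = (d * d' * d) * x := by rw [hbr]
      _ = d * (d' * d * x) := by group
  have h5 := C.three7 7 (Or.inl rfl) y hy hy1 d hd.1 hd.2 _ z3 zy zd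
  have h6 : x = d * d' := by
    have := (inv_mul_eq_one.1 h5)
    exact this.symm
  exact ⟨d, hd.1, d', hd'm.1, hnc, h6⟩

/-! ### `r = 5` -/

/-- the transpositions commuting with `d` and `u`, other than `d` -/
theorem five_link {u : K} (hu : u ^ 5 = 1) (hu1 : u ≠ 1) {d : K} (hd : d ∈ Fx T u) :
    {c | c ∈ Fx T u ∧ c ≠ d ∧ d * c = c * d}.ncard = 3 := by
  have h := (C.iso5 u hu hu1 d hd.1 hd.2).1
  have h1 : {c | c ∈ Fx T u ∧ c ≠ d ∧ d * c = c * d} = {c | c ∈ T ∧ c ≠ d ∧ d * c = c * d ∧ u * c = c * u} := by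
    ext c
    exact ⟨fun ⟨⟨a, b⟩, c, e⟩ => ⟨a, c, e, b⟩, fun ⟨a, c, e, b⟩ => ⟨⟨a, b⟩, c, e⟩⟩
  rw [h1, h]

theorem five_free {u : K} (hu : u ^ 5 = 1) (hu1 : u ≠ 1) {d b c : K} (hd : d ∈ Fx T u) (hb : b ∈ Fx T u)
    (hc : c ∈ Fx T u) (hbd : b ≠ d) (hcd : c ≠ d) (h1 : d * b = b * d) (h2 : d * c = c * d) (h3 : b * c = c * b) :
    b = c :=
  (C.iso5 u hu hu1 d hd.1 hd.2).2 b hb.1 c hc.1 hbd hcd h1 h2 hb.2 hc.2 h3

/-- two noncommuting transpositions in `Fx T u` have a common neighbour -/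
theorem five_common {u : K} (hu : u ^ 5 = 1) {d e : K} (hd : d ∈ Fx T u) (he : e ∈ Fx T u) (h : d * e ≠ e * d) :
    ∃ c ∈ Fx T u, c ≠ d ∧ d * c = c * d ∧ e * c = c * e := by
  have := C.finite
  by_contra hcon
  push Not at hcon
  apply (C.mu hd.1 he.1 h).1
  have h3 := fix_modEq (r := 5) (by norm_num) hu (S := {c | c ∈ T ∧ d * c = c * d ∧ e * c = c * e}) (by
    rintro s ⟨hs, hs1, hs2⟩
    exact ⟨C.conj s hs u, conj_of_comm hd.2 hs1, conj_of_comm he.2 hs2⟩)
  have h4 : {s | s ∈ {c | c ∈ T ∧ d * c = c * d ∧ e * c = c * e} ∧ u * s = s * u} = ∅ := by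
    rw [Set.eq_empty_iff_forall_notMem]
    rintro s ⟨⟨hs, hs1, hs2⟩, hs3⟩
    refine hcon s ⟨hs, hs3⟩ ?_ hs1 hs2
    rintro rfl
    exact h hs2.symm
  rw [h4, Set.ncard_empty] at h3
  exact (Nat.modEq_zero_iff_dvd).1 h3

theorem five_far {u : K} (hu : u ^ 5 = 1) (hu1 : u ≠ 1) {d : K} (hd : d ∈ Fx T u) :
    (Fx T u).ncard = 10 ∧ {e | e ∈ Fx T u ∧ d * e ≠ e * d}.ncard = 6 := by
  classical
  have := C.finite
  have : Fintype K := Fintype.ofFinite K
  set P : Set K := {c | c ∈ Fx T u ∧ c ≠ d ∧ d * c = c * d} with hP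
  set Q : Set K := {e | e ∈ Fx T u ∧ d * e ≠ e * d} with hQ
  have hP3 : P.ncard = 3 := C.five_link hu hu1 hd
  have hn : (Fx T u).ncard = 4 + Q.ncard := by
    have h2 : Fx T u = insert d (P ∪ Q) := by
      ext x
      constructor
      · intro hx
        by_cases h3 : x = d
        · exact Or.inl h3
        · by_cases h4 : d * x = x * d
          · exact Or.inr (Or.inl ⟨hx, h3, h4⟩)
          · exact Or.inr (Or.inr ⟨hx, h4⟩)
      · rintro (rfl | ⟨hx, -, -⟩ | ⟨hx, -⟩)
        · exact hd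
        · exact hx
        · exact hx
    have h3 : Disjoint P Q := by
      rw [Set.disjoint_left]
      rintro x ⟨-, -, h4⟩ ⟨-, h5⟩
      exact h5 h4
    have h4 : d ∉ P ∪ Q := by
      rintro (⟨-, h5, -⟩ | ⟨-, h5⟩)
      · exact h5 rfl
      · exact h5 rfl
    rw [h2, Set.ncard_insert_of_notMem h4 (Set.toFinite _), Set.ncard_union_eq h3 (Set.toFinite _) (Set.toFinite _), hP3]
    omega
  -- each `c ∈ P` has two neighbours in `Q`
  have hPQ : ∀ c ∈ P, {e | e ∈ Q ∧ e * c = c * e}.ncard = 2 := by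
    rintro c ⟨hc, hcd, hdc⟩
    have h1 := C.five_link hu hu1 hc
    have h2 : {e | e ∈ Q ∧ e * c = c * e} = {e | e ∈ Fx T u ∧ e ≠ c ∧ c * e = e * c} \ {d} := by
      ext e
      constructor
      · rintro ⟨⟨he, hde⟩, hec⟩
        refine ⟨⟨he, ?_, hec.symm⟩, ?_⟩
        · rintro rfl
          exact hde hdc
        · rintro rfl
          exact hde rfl
      · rintro ⟨⟨he, hec, hce⟩, hed⟩
        refine ⟨⟨he, fun hde => hed ?_⟩, hce.symm⟩
        exact C.five_free hu hu1 hc he hd hec hcd.symm hce hdc.symm hde.symm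
    have h3 : d ∈ {e | e ∈ Fx T u ∧ e ≠ c ∧ c * e = e * c} := ⟨hd, hcd.symm, hdc.symm⟩
    rw [h2, Set.ncard_sdiff_singleton_of_mem h3, h1]
  -- each `e ∈ Q` has one to three neighbours in `P`
  have hQP : ∀ e ∈ Q, 1 ≤ {c | c ∈ P ∧ e * c = c * e}.ncard ∧ {c | c ∈ P ∧ e * c = c * e}.ncard ≤ 3 := by
    rintro e ⟨he, hde⟩
    constructor
    · obtain ⟨c, hc, hcd, h1, h2⟩ := C.five_common hu hd he hde
      exact (Set.ncard_pos (Set.toFinite _)).2 ⟨c, ⟨hc, hcd, h1⟩, h2⟩
    · have h1 := Set.ncard_le_ncard (s := {c | c ∈ P ∧ e * c = c * e}) (t := P) (fun c hc => hc.1) (Set.toFinite _)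
      omega
  have hdc : 6 = ∑ e ∈ Q.toFinset, {c | c ∈ P ∧ e * c = c * e}.ncard := by
    have h1 := Finset.sum_card_bipartiteAbove_eq_sum_card_bipartiteBelow (s := P.toFinset) (t := Q.toFinset)
      (fun c e : K => e * c = c * e)
    have h2 : ∀ c ∈ P.toFinset, (Q.toFinset.bipartiteAbove (fun c e : K => e * c = c * e) c).card = 2 := by
      intro c hc
      rw [← hPQ c (Set.mem_toFinset.1 hc), Set.ncard_eq_toFinset_card']
      congr 1
      ext e
      simp [Finset.bipartiteAbove]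
    have h3 : ∀ e ∈ Q.toFinset, (P.toFinset.bipartiteBelow (fun c e : K => e * c = c * e) e).card =
        {c | c ∈ P ∧ e * c = c * e}.ncard := by
      intro e he
      rw [Set.ncard_eq_toFinset_card']
      congr 1
      ext c
      simp [Finset.bipartiteBelow]
    rw [Finset.sum_congr rfl h2, Finset.sum_congr rfl h3, Finset.sum_const,
      ← Set.ncard_eq_toFinset_card', hP3, smul_eq_mul] at h1
    exact h1
  have hup : ∑ e ∈ Q.toFinset, {c | c ∈ P ∧ e * c = c * e}.ncard ≤ Q.toFinset.card • 3 :=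
    Finset.sum_le_card_nsmul _ _ _ (fun e he => (hQP e (Set.mem_toFinset.1 he)).2)
  have hlo : Q.toFinset.card • 1 ≤ ∑ e ∈ Q.toFinset, {c | c ∈ P ∧ e * c = c * e}.ncard :=
    Finset.card_nsmul_le_sum _ _ _ (fun e he => (hQP e (Set.mem_toFinset.1 he)).1)
  rw [← hdc, ← Set.ncard_eq_toFinset_card', smul_eq_mul] at hup hlo
  have h5 := C.fx_mod (by norm_num : Nat.Prime 5) hu
  rw [hn] at h5
  have h6 : Q.ncard = 6 := by
    have h7 : Q.ncard ≤ 6 := by omega
    have h8 : 2 ≤ Q.ncard := by omega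
    have h9 : (3510 : ℕ) % 5 = (4 + Q.ncard) % 5 := h5
    omega
  exact ⟨by rw [hn, h6], h6⟩

/-- **an element of order three commuting with an element of order five** -/
theorem five {u : K} (hu : u ^ 5 = 1) (hu1 : u ≠ 1) {x : K} (hx : x ^ 3 = 1) (hx1 : x ≠ 1) (hxu : x * u = u * x) :
    Is3A T x := by
  have := C.finite
  obtain ⟨d0, hd0, hd0'⟩ := C.ex5 u hu hu1
  have h10 := (C.five_far hu hu1 (d := d0) ⟨hd0, hd0'⟩).1
  -- `x` fixes a transposition `d`
  obtain ⟨d, hd, hxd⟩ : ∃ d ∈ Fx T u, x * d = d * x := by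
    have h1 := fix_modEq (r := 3) Nat.prime_three hx (S := Fx T u) (fun s hs => C.fx_conj hxu hs)
    rw [h10] at h1
    by_contra hcon
    push Not at hcon
    have h2 : {s | s ∈ Fx T u ∧ x * s = s * x} = ∅ :=
      Set.eq_empty_iff_forall_notMem.2 (fun s hs => hcon s hs.1 hs.2)
    rw [h2, Set.ncard_empty] at h1
    revert h1; decide
  have h3 := C.five_link hu hu1 hd
  set P : Set K := {c | c ∈ Fx T u ∧ c ≠ d ∧ d * c = c * d} with hP
  have hPc : ∀ z : K, z * u = u * z → z * d = d * z → ∀ c ∈ P, z * c * z⁻¹ ∈ P := by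
    rintro z hzu hzd c ⟨hc, hcd, hdc⟩
    refine ⟨C.fx_conj hzu hc, fun h => hcd ?_, conj_of_comm hzd hdc⟩
    have h4 : z * c = d * z := mul_inv_eq_iff_eq_mul.1 h
    rw [← hzd] at h4
    exact mul_left_cancel h4
  obtain ⟨c, hc, hxc⟩ : ∃ c ∈ P, x * c ≠ c * x := by
    by_contra hcon
    push Not at hcon
    exact hx1 (C.three5 u hu hu1 d hd.1 hd.2 x hx hxu hxd
      (fun c hc hcd hdc huc => hcon c ⟨⟨hc, huc⟩, hcd, hdc⟩))
  -- no element of `P` is fixed
  have hx4 : x ^ 4 = x := by rw [pow_succ, hx, one_mul]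
  obtain ⟨d', hd'⟩ : ∃ d', d' = x * c * x⁻¹ := ⟨_, rfl⟩
  have hd'm : d' ∈ P := by rw [hd']; exact hPc x hxu hxd c hc
  have hne : c ≠ d' := by
    intro h
    exact hxc (mul_inv_eq_iff_eq_mul.1 (hd'.symm.trans h.symm))
  obtain ⟨d'', hd''⟩ : ∃ d'', d'' = x * d' * x⁻¹ := ⟨_, rfl⟩
  have hd''m : d'' ∈ P := by rw [hd'']; exact hPc x hxu hxd d' hd'm
  have cc := C.sq c hc.1.1
  have dd' := C.sq d' hd'm.1.1
  have hnc : c * d' ≠ d' * c := fun h =>
    hne (C.five_free hu hu1 hd hc.1 hd'm.1 hc.2.1 hd'm.2.1 hc.2.2 hd'm.2.2 h)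
  have hbr := (C.three c hc.1.1 d' hd'm.1.1).resolve_left hnc
  have s3 := C.cube hc.1.1 hd'm.1.1 hnc
  have hcd'c : c * d' * c ∈ P := by
    have := hPc c hc.1.2.symm hc.2.2.symm d' hd'm
    rwa [C.inv hc.1.1] at this
  have n1 : c ≠ c * d' * c := by
    intro h
    apply hne
    have h2 : c * (d' * c) = c * 1 := by rw [mul_one, ← mul_assoc]; exact h.symm
    have h4 := mul_left_cancel h2
    calc c = 1 * c := (one_mul c).symm
      _ = d' * d' * c := by rw [dd']
      _ = d' * (d' * c) := by group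
      _ = d' := by rw [h4, mul_one]
  have n2 : d' ≠ c * d' * c := by
    intro h
    apply hnc
    calc c * d' = c * (c * d' * c) := by rw [← h]
      _ = (c * c) * d' * c := by group
      _ = d' * c := by rw [cc, one_mul]
  have n3 : d'' ≠ d' := by
    intro h
    apply hne
    have h2 : x * d' * x⁻¹ = x * c * x⁻¹ := by rw [← hd', ← hd'', h]
    exact (mul_left_cancel (mul_right_cancel h2)).symm
  have n4 : d'' ≠ c := by
    intro h
    apply hxc
    have h2 : x * (x * c * x⁻¹) * x⁻¹ = c := by rw [← hd', ← hd'', h]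
    have h5 : x ^ 2 * c * (x ^ 2)⁻¹ = c := by
      rw [pow_two]
      calc x * x * c * (x * x)⁻¹ = x * (x * c * x⁻¹) * x⁻¹ := by group
        _ = c := h2
    have h6 : x ^ 4 * c * (x ^ 4)⁻¹ = c := by
      have : x ^ 4 * c * (x ^ 4)⁻¹ = x ^ 2 * (x ^ 2 * c * (x ^ 2)⁻¹) * (x ^ 2)⁻¹ := by group
      rw [this, h5, h5]
    rw [hx4] at h6
    exact mul_inv_eq_iff_eq_mul.1 h6
  have h4 : d'' = c * d' * c := eq_of_ncard_three h3 hc hd'm hcd'c hd''m hne n1 n2 n4 n3
  have hxs : x * (c * d') * x⁻¹ = c * d' := by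
    calc x * (c * d') * x⁻¹ = (x * c * x⁻¹) * (x * d' * x⁻¹) := by group
      _ = d' * (c * d' * c) := by rw [← hd', ← hd'', h4]
      _ = d' * (d' * c * d') := by rw [hbr]
      _ = (d' * d') * c * d' := by group
      _ = c * d' := by rw [dd', one_mul]
  have hxs' : Commute (c * d') x := (mul_inv_eq_iff_eq_mul.1 hxs).symm
  have z3 : ((c * d')⁻¹ * x) ^ 3 = 1 := by
    rw [hxs'.inv_left.mul_pow, inv_pow, s3, hx, inv_one, one_mul]
  have zu : (c * d')⁻¹ * x * u = u * ((c * d')⁻¹ * x) := by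
    have h5 : Commute u (c * d') := Commute.mul_right hc.1.2 hd'm.1.2
    exact (h5.inv_right.mul_right hxu.symm).symm.eq
  have zd : (c * d')⁻¹ * x * d = d * ((c * d')⁻¹ * x) := by
    have h5 : Commute d (c * d') := Commute.mul_right hc.2.2 hd'm.2.2
    exact (h5.inv_right.mul_right hxd.symm).symm.eq
  have zc : (c * d')⁻¹ * x * c = c * ((c * d')⁻¹ * x) := by
    have h5 : x * c = d' * x := mul_inv_eq_iff_eq_mul.1 hd'.symm
    rw [mul_inv_rev, C.inv hc.1.1, C.inv hd'm.1.1]
    calc d' * c * x * c = d' * c * (x * c) := by group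
      _ = (d' * c * d') * x := by rw [h5]; group
      _ = (c * d' * c) * x := by rw [hbr]
      _ = c * (d' * c * x) := by group
  have zd' : (c * d')⁻¹ * x * d' = d' * ((c * d')⁻¹ * x) := by
    have h5 : x * d' = c * d' * c * x := by rw [← h4]; exact mul_inv_eq_iff_eq_mul.1 hd''.symm
    rw [mul_inv_rev, C.inv hc.1.1, C.inv hd'm.1.1]
    calc d' * c * x * d' = d' * c * (x * d') := by group
      _ = d' * (c * c) * d' * c * x := by rw [h5]; group
      _ = d' * d' * c * x := by rw [cc, mul_one]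
      _ = d' * (d' * c * x) := by group
  have hz := C.three5 u hu hu1 d hd.1 hd.2 _ z3 zu zd (by
    intro c' hc' hcd hdc huc
    have hc'P : c' ∈ P := ⟨⟨hc', huc⟩, hcd, hdc⟩
    by_cases h5 : c' = c
    · rw [h5]; exact zc
    · by_cases h6 : c' = d'
      · rw [h6]; exact zd'
      · have h7 : c' = c * d' * c := eq_of_ncard_three h3 hc hd'm hcd'c hc'P hne n1 n2 h5 h6
        rw [h7]
        have e1 : Commute ((c * d')⁻¹ * x) c := zc
        have e2 : Commute ((c * d')⁻¹ * x) d' := zd'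
        exact ((e1.mul_right e2).mul_right e1).eq)
  exact ⟨c, hc.1.1, d', hd'm.1.1, hnc, (inv_mul_eq_one.1 hz).symm⟩

end Ctx

end Cfsg.Agent.LThreeFi22

end

-- merged: Cfsg.Agent.LThreeFi22.ThreeA
section

/-!
# The centralizer of a product of two noncommuting transpositions of `Fi22` (helper51)

* `nine_seven`, `nine_five` : `9` does not divide the order of the centralizer of an element of order 7 or 5;
* `card_three` : `|C(ab)| = 19595520 = 2^8 3^7 5 7` for noncommuting transpositions `a`, `b`.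
-/

set_option autoImplicit false
set_option linter.unusedSectionVars false
set_option linter.style.haveILetI false

namespace Cfsg.Agent.LThreeFi22

universe v

open Subgroup

variable {K : Type v} [Group K] {T : Set K}

/-- a subgroup acting by conjugation on a set -/
def actHom (P : Subgroup K) (S : Set K) (h : ∀ g ∈ P, ∀ s ∈ S, g * s * g⁻¹ ∈ S) : ↥P →* Equiv.Perm ↥S where
  toFun g :=
    { toFun := fun s => ⟨g * s * (g : K)⁻¹, h g g.2 s s.2⟩
      invFun := fun s => ⟨(g : K)⁻¹ * s * (g : K)⁻¹⁻¹, h _ (P.inv_mem g.2) s s.2⟩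
      left_inv := fun s => Subtype.ext (by
        change (g : K)⁻¹ * (g * s * (g : K)⁻¹) * (g : K)⁻¹⁻¹ = s
        group)
      right_inv := fun s => Subtype.ext (by
        change g * ((g : K)⁻¹ * s * (g : K)⁻¹⁻¹) * (g : K)⁻¹ = s
        group) }
  map_one' := by
    ext s
    change (1 : K) * s * (1 : K)⁻¹ = s
    group
  map_mul' g g' := by
    ext s
    change (g : K) * g' * s * ((g : K) * g')⁻¹ = g * (g' * s * (g' : K)⁻¹) * (g : K)⁻¹
    group

theorem actHom_apply (P : Subgroup K) (S : Set K) (h : ∀ g ∈ P, ∀ s ∈ S, g * s * g⁻¹ ∈ S) (g : ↥P) (s : ↥S) :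
    ((actHom P S h g s : ↥S) : K) = g * s * (g : K)⁻¹ := rfl

theorem exists_fix [Finite K] {P : Subgroup K} (hP : Nat.card ↥P = 9) {S : Set K} (hS : S.ncard = 3)
    (h : ∀ g ∈ P, ∀ s ∈ S, g * s * g⁻¹ ∈ S) : ∃ g ∈ P, g ≠ 1 ∧ g ^ 3 = 1 ∧ ∀ s ∈ S, g * s = s * g := by
  classical
  have : Fintype ↥S := Fintype.ofFinite _
  have hcard : Nat.card (Equiv.Perm ↥S) = 6 := by
    rw [Nat.card_perm]
    have h1 : Nat.card ↥S = 3 := hS
    rw [h1]
    rfl
  have h9 : ¬ Function.Injective (actHom P S h) := by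
    intro hi
    have h1 := Subgroup.card_dvd_of_injective (actHom P S h) hi
    rw [hP, hcard] at h1
    omega
  have hker : (actHom P S h).ker ≠ ⊥ := by
    intro hk
    exact h9 ((MonoidHom.ker_eq_bot_iff _).1 hk)
  have : Fact (Nat.Prime 3) := ⟨Nat.prime_three⟩
  have hd : Nat.card ↥(actHom P S h).ker ∣ 3 ^ 2 := by
    have h1 := (actHom P S h).ker.card_subgroup_dvd_card
    rwa [hP] at h1
  obtain ⟨k, hk1, hk2⟩ := (Nat.dvd_prime_pow Nat.prime_three).1 hd
  have hk0 : k ≠ 0 := by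
    rintro rfl
    apply hker
    rw [pow_zero] at hk2
    exact Subgroup.card_eq_one.1 hk2
  have h3 : 3 ∣ Nat.card ↥(actHom P S h).ker := by
    rw [hk2]
    exact dvd_pow_self 3 hk0
  obtain ⟨g, hg⟩ := exists_prime_orderOf_dvd_card' 3 h3
  have hgo : orderOf ((g : ↥P) : K) = 3 := by
    rw [Subgroup.orderOf_coe, Subgroup.orderOf_coe, hg]
  refine ⟨(g : ↥P), (g : ↥P).2, ?_, ?_, ?_⟩
  · intro h1
    rw [h1, orderOf_one] at hgo
    omega
  · rw [← hgo]
    exact pow_orderOf_eq_one _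
  · intro s hs
    have h1 := DFunLike.congr_fun (MonoidHom.mem_ker.1 g.2) ⟨s, hs⟩
    have h2 := congrArg Subtype.val h1
    rw [actHom_apply] at h2
    exact mul_inv_eq_iff_eq_mul.1 h2

theorem exists_fixpt [Finite K] {P : Subgroup K} (hP : IsPGroup 3 ↥P) {S : Set K} (hS : ¬ 3 ∣ S.ncard)
    (h : ∀ g ∈ P, ∀ s ∈ S, g * s * g⁻¹ ∈ S) : ∃ s ∈ S, ∀ g ∈ P, g * s = s * g := by
  classical
  have : Fact (Nat.Prime 3) := ⟨Nat.prime_three⟩
  letI : MulAction ↥P ↥S := MulAction.compHom _ (actHom P S h)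
  have h1 := hP.card_modEq_card_fixedPoints (↥S)
  have h2 : (MulAction.fixedPoints ↥P ↥S).Nonempty := by
    by_contra hcon
    rw [Set.not_nonempty_iff_eq_empty] at hcon
    apply hS
    have h3 : Nat.card ↥(MulAction.fixedPoints ↥P ↥S) = 0 := by
      rw [hcon]; simp
    rw [h3] at h1
    exact (Nat.modEq_zero_iff_dvd).1 h1
  obtain ⟨s, hs⟩ := h2
  refine ⟨s, s.2, fun g hg => ?_⟩
  have h3 := congrArg Subtype.val (hs ⟨g, hg⟩)
  change ((actHom P S h ⟨g, hg⟩ s : ↥S) : K) = s at h3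
  rw [actHom_apply] at h3
  exact mul_inv_eq_iff_eq_mul.1 h3

/-- orbits of a subgroup by conjugation -/
theorem orbit_card [Finite K] (H : Subgroup K) (t : K) {S : Set K} (hS : ∀ x, x ∈ S ↔ ∃ h ∈ H, x = h * t * h⁻¹) :
    S.ncard * Nat.card ↥(H ⊓ centralizer ({t} : Set K)) = Nat.card ↥H := by
  classical
  have h0 : t ∈ S := (hS t).2 ⟨1, H.one_mem, by group⟩
  have hc : ∀ g ∈ H, ∀ s ∈ S, g * s * g⁻¹ ∈ S := by
    intro g hg s hs
    obtain ⟨h, hh, rfl⟩ := (hS s).1 hs
    rw [hS]
    exact ⟨g * h, H.mul_mem hg hh, by group⟩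
  letI : MulAction ↥H ↥S := MulAction.compHom _ (actHom H S hc)
  have hsm : ∀ (g : ↥H) (s : ↥S), ((g • s : ↥S) : K) = g * s * (g : K)⁻¹ := fun g s => rfl
  have : Fintype ↥H := Fintype.ofFinite _
  have : Fintype ↥(MulAction.orbit ↥H (⟨t, h0⟩ : ↥S)) := Fintype.ofFinite _
  have h1 := MulAction.card_orbit_mul_card_stabilizer_eq_card_group ↥H (⟨t, h0⟩ : ↥S)
  rw [← Nat.card_eq_fintype_card, ← Nat.card_eq_fintype_card, ← Nat.card_eq_fintype_card] at h1
  have h2 : MulAction.orbit ↥H (⟨t, h0⟩ : ↥S) = Set.univ := by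
    rw [Set.eq_univ_iff_forall]
    rintro ⟨s, hs⟩
    obtain ⟨h, hh, rfl⟩ := (hS s).1 hs
    exact ⟨⟨h, hh⟩, Subtype.ext (hsm _ _)⟩
  have h3 : Nat.card ↥(MulAction.orbit ↥H (⟨t, h0⟩ : ↥S)) = S.ncard := by
    rw [h2]
    exact Nat.card_congr (Equiv.Set.univ _)
  have h4 : Nat.card ↥(MulAction.stabilizer ↥H (⟨t, h0⟩ : ↥S)) = Nat.card ↥(H ⊓ centralizer ({t} : Set K)) := by
    have h5 : MulAction.stabilizer ↥H (⟨t, h0⟩ : ↥S) = (centralizer ({t} : Set K)).subgroupOf H := by
      ext g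
      rw [MulAction.mem_stabilizer_iff, mem_subgroupOf, mem_centralizer_singleton_iff]
      constructor
      · intro h
        have := congrArg Subtype.val h
        rw [hsm] at this
        exact mul_inv_eq_iff_eq_mul.1 this
      · intro h
        apply Subtype.ext
        rw [hsm]
        exact mul_inv_eq_iff_eq_mul.2 h
    rw [h5, ← Subgroup.inf_subgroupOf_left]
    exact Nat.card_congr (Subgroup.subgroupOfEquivOfLe inf_le_left).toEquiv
  rw [h3, h4] at h1
  exact h1

namespace Ctx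

variable (C : Ctx K T)
include C

theorem exists_nine {y : K} (h : 9 ∣ Nat.card ↥(centralizer ({y} : Set K))) :
    ∃ P : Subgroup K, Nat.card ↥P = 9 ∧ ∀ g ∈ P, g * y = y * g := by
  have := C.finite
  have : Fact (Nat.Prime 3) := ⟨Nat.prime_three⟩
  obtain ⟨Q, hQ⟩ := Sylow.exists_subgroup_card_pow_prime (G := ↥(centralizer ({y} : Set K))) 3 (n := 2) h
  refine ⟨Q.map (centralizer ({y} : Set K)).subtype, ?_, ?_⟩
  · rw [card_map_of_injective (Subgroup.subtype_injective _), hQ]
    norm_num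
  · rintro _ ⟨g, -, rfl⟩
    exact mem_centralizer_singleton_iff.1 g.2

/-- `9` does not divide the order of the centralizer of an element of order 7 -/
theorem nine_seven {y : K} (hy : y ^ 7 = 1) (hy1 : y ≠ 1) : ¬ 9 ∣ Nat.card ↥(centralizer ({y} : Set K)) := by
  intro h
  have := C.finite
  obtain ⟨P, hP, hPy⟩ := C.exists_nine h
  have h3 := C.seven_card hy hy1
  obtain ⟨g, hg, hg1, hg3, hgS⟩ := exists_fix hP h3 (fun g hg s hs => C.fx_conj (hPy g hg) hs)
  obtain ⟨d, hd⟩ := C.exists_mem (y := y) (by rw [h3]; norm_num)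
  exact hg1 (C.three7 7 (Or.inl rfl) y hy hy1 d hd.1 hd.2 g hg3 (hPy g hg) (hgS d hd))

/-- `9` does not divide the order of the centralizer of an element of order 5 -/
theorem nine_five {u : K} (hu : u ^ 5 = 1) (hu1 : u ≠ 1) : ¬ 9 ∣ Nat.card ↥(centralizer ({u} : Set K)) := by
  intro h
  have := C.finite
  have : Fact (Nat.Prime 3) := ⟨Nat.prime_three⟩
  obtain ⟨P, hP, hPu⟩ := C.exists_nine h
  obtain ⟨d0, hd0, hd0'⟩ := C.ex5 u hu hu1
  have h10 := (C.five_far hu hu1 (d := d0) ⟨hd0, hd0'⟩).1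
  obtain ⟨d, hd, hPd⟩ := exists_fixpt (P := P) (IsPGroup.of_card (n := 2) (by rw [hP]; norm_num)) (S := Fx T u)
    (by rw [h10]; decide) (fun g hg s hs => C.fx_conj (hPu g hg) hs)
  have h3 := C.five_link hu hu1 hd
  obtain ⟨g, hg, hg1, hg3, hgS⟩ := exists_fix hP h3 (by
    rintro g hg c ⟨hc, hcd, hdc⟩
    refine ⟨C.fx_conj (hPu g hg) hc, fun h => hcd ?_, conj_of_comm (hPd g hg) hdc⟩
    have h4 : g * c = d * g := mul_inv_eq_iff_eq_mul.1 h
    rw [← hPd g hg] at h4
    exact mul_left_cancel h4)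
  exact hg1 (C.three5 u hu hu1 d hd.1 hd.2 g hg3 (hPu g hg) (hPd g hg)
    (fun c hc hcd hdc huc => hgS c ⟨⟨hc, huc⟩, hcd, hdc⟩))

/-! ### The orders of the centralizers -/

theorem exists_far {a : K} (ha : a ∈ T) : ∃ b ∈ T, a * b ≠ b * a := by
  by_contra hcon
  push Not at hcon
  have h := C.far ha
  have h1 : {e | e ∈ T ∧ a * e ≠ e * a} = ∅ :=
    Set.eq_empty_iff_forall_notMem.2 (fun c hc => hc.2 (hcon c hc.1))
  rw [h1, Set.ncard_empty] at h
  omega

theorem trans_one {a a' : K} (ha : a ∈ T) (ha' : a' ∈ T) : ∃ g : K, g * a * g⁻¹ = a' := by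
  obtain ⟨b, hb, hab⟩ := C.exists_far ha
  obtain ⟨b', hb', hab'⟩ := C.exists_far ha'
  obtain ⟨g, hg, -⟩ := C.transN a ha b hb a' ha' b' hb' hab hab'
  exact ⟨g, hg⟩

theorem card_cent {a : K} (ha : a ∈ T) : Nat.card ↥(centralizer ({a} : Set K)) = 18393661440 := by
  have := C.finite
  have h1 := orbit_card (⊤ : Subgroup K) a (S := T) (by
    intro x
    constructor
    · intro hx
      obtain ⟨g, hg⟩ := C.trans_one ha hx
      exact ⟨g, mem_top g, hg.symm⟩
    · rintro ⟨g, -, rfl⟩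
      exact C.conj a ha g)
  rw [top_inf_eq, C.ncard, card_top, C.card] at h1
  omega

theorem card_cent_two {a b : K} (ha : a ∈ T) (hb : b ∈ T) (hab : a * b ≠ b * a) :
    Nat.card ↥(centralizer ({a} : Set K) ⊓ centralizer ({b} : Set K)) = 6531840 := by
  have := C.finite
  have h1 := orbit_card (centralizer ({a} : Set K)) b (S := {e | e ∈ T ∧ a * e ≠ e * a}) (by
    intro x
    constructor
    · rintro ⟨hx, hax⟩
      obtain ⟨g, hg1, hg2⟩ := C.transN a ha b hb a ha x hx hab hax
      exact ⟨g, mem_centralizer_singleton_iff.2 (mul_inv_eq_iff_eq_mul.1 hg1), hg2.symm⟩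
    · rintro ⟨g, hg, rfl⟩
      refine ⟨C.conj b hb g, fun h => hab ?_⟩
      have h2 : g * a * g⁻¹ = a := mul_inv_eq_iff_eq_mul.2 (mem_centralizer_singleton_iff.1 hg)
      apply (conj_comm_iff g a b).1
      rw [h2]
      exact h)
  rw [C.far ha, C.card_cent ha] at h1
  omega

/-- the transpositions inverting `x` -/
def _root_.Cfsg.Agent.LThreeFi22.Inv (T : Set K) (x : K) : Set K := {f | f ∈ T ∧ f * x * f = x⁻¹}

omit C in
theorem mem_inv {x f : K} : f ∈ Inv T x ↔ f ∈ T ∧ f * x * f = x⁻¹ := Iff.rfl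

/-- a transposition inverting `x` gives `x = f (f x)` with `f x` a transposition -/
theorem inv_mul_mem {x f : K} (hx : x ^ 3 = 1) (hf : f ∈ Inv T x) : f * x ∈ T ∧ x * f * x⁻¹ = f * x := by
  have ff := C.sq f hf.1
  have h1 : x * f = f * x⁻¹ := by
    calc x * f = (f * f) * x * f := by rw [ff, one_mul]
      _ = f * (f * x * f) := by group
      _ = f * x⁻¹ := by rw [hf.2]
  have h2 : x⁻¹ * x⁻¹ = x := by
    have h3 : x * x = x⁻¹ := by rw [eq_inv_iff_mul_eq_one, ← pow_two, ← pow_succ]; exact hx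
    rw [← mul_inv_rev, h3, inv_inv]
  have h4 : x * f * x⁻¹ = f * x := by rw [h1, mul_assoc, h2]
  exact ⟨h4 ▸ C.conj f hf.1 x, h4⟩

theorem inv_noncomm {x f g : K} (hx : x ^ 3 = 1) (hx1 : x ≠ 1) (hf : f ∈ Inv T x) (hg : g ∈ Inv T x)
    (h : f * g = g * f) : f = g := by
  by_contra hne
  have ff := C.sq f hf.1
  have gg := C.sq g hg.1
  have hxfg : x * (f * g) = f * g * x := by
    have e1 : f * (g * x * g) * f = x := by
      have e3 : f * x⁻¹ * f = x := by
        have e4 := congrArg (·⁻¹) hf.2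
        simp only [mul_inv_rev, inv_inv, C.inv hf.1] at e4
        rw [← mul_assoc] at e4
        exact e4
      rw [hg.2, e3]
    calc x * (f * g) = f * (g * x * g) * f * (f * g) := by rw [e1]
      _ = f * g * x * g * (f * f) * g := by group
      _ = f * g * x * (g * g) := by rw [ff]; group
      _ = f * g * x := by rw [gg, mul_one]
  rcases C.cz f hf.1 g hg.1 hne h x hxfg with ⟨h1, -⟩ | ⟨h1, -⟩
  · -- `x` commutes with `f`
    apply hx1
    have h2 : x⁻¹ = x := by
      rw [← hf.2, ← h1, mul_assoc, ff, mul_one]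
    have h3 : x * x = 1 := by
      calc x * x = x * x⁻¹ := by rw [h2]
        _ = 1 := mul_inv_cancel x
    calc x = x * x * x := by rw [h3, one_mul]
      _ = x ^ 3 := by rw [pow_succ, pow_two]
      _ = 1 := hx
  · have h2 := (C.inv_mul_mem hx hf).2
    rw [h1] at h2
    -- `x = f g`
    have h3 : x = f * g := by rw [h2, ← mul_assoc, ff, one_mul]
    apply hx1
    have h4 : x * x = 1 := by
      calc x * x = f * g * (f * g) := by rw [← h3]
        _ = f * g * (g * f) := by rw [h]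
        _ = f * (g * g) * f := by group
        _ = 1 := by rw [gg, mul_one, ff]
    calc x = x * x * x := by rw [h4, one_mul]
      _ = x ^ 3 := by rw [pow_succ, pow_two]
      _ = 1 := hx

theorem inv_conj {x c f : K} (hf : f ∈ Inv T x) (hc : c * x = x * c) : c * f * c⁻¹ ∈ Inv T x := by
  refine ⟨C.conj f hf.1 c, ?_⟩
  have h1 : c⁻¹ * x * c = x := by rw [mul_assoc, ← hc, inv_mul_cancel_left]
  have h2 : c * x⁻¹ * c⁻¹ = x⁻¹ := by
    have : c * x * c⁻¹ = x := mul_inv_eq_iff_eq_mul.2 hc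
    calc c * x⁻¹ * c⁻¹ = (c * x * c⁻¹)⁻¹ := by group
      _ = x⁻¹ := by rw [this]
  calc c * f * c⁻¹ * x * (c * f * c⁻¹) = c * f * (c⁻¹ * x * c) * f * c⁻¹ := by group
    _ = c * (f * x * f) * c⁻¹ := by rw [h1]; group
    _ = x⁻¹ := by rw [hf.2, h2]

theorem inv_inv_eq {x f : K} (hf : f ∈ Inv T x) : f * x⁻¹ * f = x := by
  have h := congrArg (·⁻¹) hf.2
  simp only [mul_inv_rev, inv_inv, C.inv hf.1] at h
  rw [← mul_assoc] at h
  exact h

theorem inv_closed {x f g : K} (hf : f ∈ Inv T x) (hg : g ∈ Inv T x) : f * g * f⁻¹ ∈ Inv T x := by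
  refine ⟨C.conj g hg.1 f, ?_⟩
  rw [C.inv hf.1]
  calc f * g * f * x * (f * g * f) = f * g * (f * x * f) * g * f := by group
    _ = f * (g * x⁻¹ * g) * f := by rw [hf.2]; group
    _ = x⁻¹ := by rw [C.inv_inv_eq hg, hf.2]

section ThreeA

variable {a b : K} (ha : a ∈ T) (hb : b ∈ T) (hab : a * b ≠ b * a)
include ha hb hab

theorem cube_ab : (a * b) ^ 3 = 1 := C.cube ha hb hab

omit hb in
theorem ne_ab : a * b ≠ 1 := by
  intro h
  have h1 : b = a := by
    calc b = a * (a * b) := by rw [← mul_assoc, C.sq a ha, one_mul]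
      _ = a := by rw [h, mul_one]
  exact hab (by rw [h1])

omit hab in
theorem a_mem : a ∈ Inv T (a * b) := by
  refine ⟨ha, ?_⟩
  rw [mul_inv_rev, C.inv ha, C.inv hb]
  calc a * (a * b) * a = (a * a) * b * a := by group
    _ = b * a := by rw [C.sq a ha, one_mul]

omit hab in
theorem b_mem : b ∈ Inv T (a * b) := by
  refine ⟨hb, ?_⟩
  rw [mul_inv_rev, C.inv ha, C.inv hb]
  calc b * (a * b) * b = b * a * (b * b) := by group
    _ = b * a := by rw [C.sq b hb, mul_one]

omit hab in
theorem aba_mem : a * b * a ∈ Inv T (a * b) := by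
  have h1 : a * b * a ∈ T := by
    have := C.conj b hb a
    rwa [C.inv ha] at this
  refine ⟨h1, ?_⟩
  rw [mul_inv_rev, C.inv ha, C.inv hb]
  calc a * b * a * (a * b) * (a * b * a) = a * b * (a * a) * b * (a * b * a) := by group
    _ = a * (b * b) * (a * b * a) := by rw [C.sq a ha]; group
    _ = (a * a) * b * a := by rw [C.sq b hb]; group
    _ = b * a := by rw [C.sq a ha, one_mul]

theorem ne_aba : a ≠ a * b * a ∧ b ≠ a * b * a ∧ a ≠ b := by
  refine ⟨?_, ?_, ?_⟩
  · intro h
    apply C.ne_ab ha hab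
    have : 1 * a = a * b * a := by rw [one_mul]; exact h
    exact (mul_right_cancel this).symm
  · intro h
    apply hab
    calc a * b = a * (a * b * a) := by rw [← h]
      _ = (a * a) * b * a := by group
      _ = b * a := by rw [C.sq a ha, one_mul]
  · rintro rfl
    exact hab rfl

/-- the centralizer of `ab` is transitive on the transpositions inverting `ab` -/
theorem inv_orbit (x : K) : x ∈ Inv T (a * b) ↔ ∃ h ∈ centralizer ({a * b} : Set K), x = h * a * h⁻¹ := by
  constructor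
  · intro hx
    have h1 := C.inv_mul_mem (C.cube_ab ha hb hab) hx
    have hxx := C.sq x hx.1
    have h2 : x * (x * (a * b)) ≠ x * (a * b) * x := by
      intro h
      apply C.ne_ab ha hab
      have e1 : a * b = (a * b)⁻¹ := by
        rw [← hx.2, ← h, ← mul_assoc, hxx, one_mul]
      have e2 : (a * b) * (a * b) = 1 := by
        nth_rewrite 2 [e1]
        exact mul_inv_cancel _
      calc a * b = (a * b) * (a * b) * (a * b) := by rw [e2, one_mul]
        _ = (a * b) ^ 3 := by rw [pow_succ, pow_two]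
        _ = 1 := C.cube_ab ha hb hab
    obtain ⟨g, hg1, hg2⟩ := C.transN a ha b hb x hx.1 (x * (a * b)) h1.1 hab h2
    refine ⟨g, ?_, hg1.symm⟩
    rw [mem_centralizer_singleton_iff]
    apply mul_inv_eq_iff_eq_mul.1
    calc g * (a * b) * g⁻¹ = (g * a * g⁻¹) * (g * b * g⁻¹) := by group
      _ = (x * x) * (a * b) := by rw [hg1, hg2]; group
      _ = a * b := by rw [hxx, one_mul]
  · rintro ⟨h, hh, rfl⟩
    exact C.inv_conj (C.a_mem ha hb) (mem_centralizer_singleton_iff.1 hh)

theorem card_mul : (Inv T (a * b)).ncard * 6531840 = Nat.card ↥(centralizer ({a * b} : Set K)) := by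
  have := C.finite
  have h1 := orbit_card (centralizer ({a * b} : Set K)) a (S := Inv T (a * b)) (C.inv_orbit ha hb hab)
  have h2 : centralizer ({a * b} : Set K) ⊓ centralizer ({a} : Set K) =
      centralizer ({a} : Set K) ⊓ centralizer ({b} : Set K) := by
    ext x
    rw [mem_inf, mem_inf, mem_centralizer_singleton_iff, mem_centralizer_singleton_iff, mem_centralizer_singleton_iff]
    constructor
    · rintro ⟨h3, h4⟩
      refine ⟨h4, ?_⟩
      have h5 : a * (x * b) = a * (b * x) := by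
        calc a * (x * b) = (a * x) * b := by group
          _ = x * (a * b) := by rw [← h4]; group
          _ = a * (b * x) := by rw [h3]; group
      exact mul_left_cancel h5
    · rintro ⟨h3, h4⟩
      refine ⟨?_, h3⟩
      calc x * (a * b) = (x * a) * b := by group
        _ = a * (x * b) := by rw [h3]; group
        _ = a * b * x := by rw [h4]; group
  rw [h2, C.card_cent_two ha hb hab] at h1
  exact h1

theorem inv_card : (Inv T (a * b)).ncard = 3 := by
  have := C.finite
  set V := Inv T (a * b) with hV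
  set x := a * b with hx
  have x3 : x ^ 3 = 1 := C.cube_ab ha hb hab
  have x1 : x ≠ 1 := C.ne_ab ha hab
  have haV : a ∈ V := C.a_mem ha hb
  have hbV : b ∈ V := C.b_mem ha hb
  have habaV : a * b * a ∈ V := C.aba_mem ha hb
  obtain ⟨n1, n2, n3⟩ := C.ne_aba ha hb hab
  -- divisibility
  have hdvd : V.ncard ∣ 9884160 := by
    have h1 := C.card_mul ha hb hab
    have h2 : Nat.card ↥(centralizer ({x} : Set K)) ∣ Nat.card K := Subgroup.card_subgroup_dvd_card _
    rw [← h1, C.card] at h2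
    have h3 : (64561751654400 : ℕ) = 9884160 * 6531840 := by norm_num
    rw [h3] at h2
    exact Nat.dvd_of_mul_dvd_mul_right (by norm_num) h2
  -- odd
  have hodd : V.ncard % 2 = 1 := by
    have h1 := fix_modEq (r := 2) Nat.prime_two (y := a) (by rw [pow_two]; exact C.sq a ha) (S := V)
      (fun s hs => C.inv_closed haV hs)
    have h2 : {s | s ∈ V ∧ a * s = s * a} = {a} := by
      ext s
      constructor
      · rintro ⟨hs, h3⟩
        exact (C.inv_noncomm x3 x1 haV hs h3).symm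
      · rintro rfl
        exact ⟨haV, rfl⟩
    rw [h2, Set.ncard_singleton] at h1
    exact h1
  -- `x` acts without fixed points
  have hxx : ∀ s ∈ V, x * s ≠ s * x := by
    intro s hs h
    apply x1
    have h2 : x⁻¹ = x := by
      rw [← hs.2, ← h, mul_assoc, C.sq s hs.1, mul_one]
    have h4 : x * x = 1 := by
      nth_rewrite 2 [← h2]
      exact mul_inv_cancel _
    calc x = x * x * x := by rw [h4, one_mul]
      _ = x ^ 3 := by rw [pow_succ, pow_two]
      _ = 1 := x3
  have h3 : V.ncard % 3 = 0 := by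
    have h1 := fix_modEq (r := 3) Nat.prime_three x3 (S := V) (fun s hs => C.inv_conj hs rfl)
    have h2 : {s | s ∈ V ∧ x * s = s * x} = ∅ :=
      Set.eq_empty_iff_forall_notMem.2 (fun s hs => hxx s hs.1 hs.2)
    rw [h2, Set.ncard_empty] at h1
    exact h1
  -- elements of `C(a) ∩ C(b)`
  have hcauchy : ∀ r : ℕ, r.Prime → r ∣ 6531840 → ∃ y : K, y ^ r = 1 ∧ y ≠ 1 ∧ y * a = a * y ∧ y * b = b * y := by
    intro r hr hdv
    have : Fact r.Prime := ⟨hr⟩
    rw [← C.card_cent_two ha hb hab] at hdv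
    obtain ⟨y, hy⟩ := exists_prime_orderOf_dvd_card' r hdv
    have hy' : orderOf (y : K) = r := by rw [Subgroup.orderOf_coe, hy]
    refine ⟨y, ?_, ?_, ?_, ?_⟩
    · rw [← hy']; exact pow_orderOf_eq_one _
    · intro h
      rw [h, orderOf_one] at hy'
      exact hr.one_lt.ne hy'
    · exact mem_centralizer_singleton_iff.1 (mem_inf.1 y.2).1
    · exact mem_centralizer_singleton_iff.1 (mem_inf.1 y.2).2
  have h7 : V.ncard % 7 = 3 := by
    obtain ⟨y, hy, hy1, hya, hyb⟩ := hcauchy 7 (by norm_num) (by norm_num)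
    have hyx : y * x = x * y := (Commute.mul_right hya hyb : Commute y (a * b)).eq
    have h1 := fix_modEq (r := 7) (by norm_num) hy (S := V) (fun s hs => C.inv_conj hs hyx)
    have h2 : {s | s ∈ V ∧ y * s = s * y} = Fx T y := by
      ext s
      constructor
      · rintro ⟨hs, hs2⟩
        exact ⟨hs.1, hs2⟩
      · intro hs
        refine ⟨?_, hs.2⟩
        have haF : a ∈ Fx T y := ⟨ha, hya⟩
        have hbF : b ∈ Fx T y := ⟨hb, hyb⟩
        have habaF : a * b * a ∈ Fx T y := ⟨habaV.1, ((Commute.mul_right hya hyb).mul_right hya : Commute y (a * b * a)).eq⟩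
        by_cases e1 : s = a
        · rw [e1]; exact haV
        · by_cases e2 : s = b
          · rw [e2]; exact hbV
          · rw [eq_of_ncard_three (C.seven_card hy hy1) haF hbF habaF hs n3 n1 n2 e1 e2]
            exact habaV
    rw [h2, C.seven_card hy hy1] at h1
    exact h1
  have h5 : V.ncard % 5 = 3 ∨ V.ncard % 5 = 1 := by
    obtain ⟨u, hu, hu1, hua, hub⟩ := hcauchy 5 (by norm_num) (by norm_num)
    have hux : u * x = x * u := (Commute.mul_right hua hub : Commute u (a * b)).eq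
    have h1 := fix_modEq (r := 5) (by norm_num) hu (S := V) (fun s hs => C.inv_conj hs hux)
    set W := {s | s ∈ V ∧ u * s = s * u} with hW
    have hle : W.ncard ≤ 7 := by
      have h2 := (C.five_far hu hu1 (d := a) ⟨ha, hua⟩).2
      have h4 : W ⊆ insert a {e | e ∈ Fx T u ∧ a * e ≠ e * a} := by
        rintro s ⟨hs, hus⟩
        by_cases e1 : s = a
        · exact Or.inl e1
        · right
          exact ⟨⟨hs.1, hus⟩, fun h => e1 (C.inv_noncomm x3 x1 haV hs h).symm⟩
      have h5 := Set.ncard_le_ncard h4 (Set.toFinite _)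
      have h6 := Set.ncard_insert_le a {e | e ∈ Fx T u ∧ a * e ≠ e * a}
      omega
    have hpos : 0 < W.ncard := (Set.ncard_pos (Set.toFinite _)).2 ⟨a, haV, hua⟩
    have hW3 : W.ncard % 3 = 0 := by
      have h2 := fix_modEq (r := 3) Nat.prime_three x3 (S := W) (by
        rintro s ⟨hs, hus⟩
        exact ⟨C.inv_conj hs rfl, conj_of_comm hux.symm hus⟩)
      have h4 : {s | s ∈ W ∧ x * s = s * x} = ∅ :=
        Set.eq_empty_iff_forall_notMem.2 (fun s hs => hxx s hs.1.1 hs.2)
      rw [h4, Set.ncard_empty] at h2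
      exact h2
    have h4 : V.ncard % 5 = W.ncard % 5 := h1
    have h6 : W.ncard = 3 ∨ W.ncard = 6 := by omega
    rcases h6 with h6 | h6 <;> rw [h6] at h4 <;> omega
  -- the arithmetic
  generalize V.ncard = n at hdvd hodd h3 h5 h7
  have hn : n ∣ 3 ^ 3 * 11 * 13 := by
    have e1 : (9884160 : ℕ) = 2 ^ 9 * (5 * (3 ^ 3 * 11 * 13)) := by norm_num
    rw [e1] at hdvd
    have c2 : Nat.Coprime n (2 ^ 9) := by
      apply Nat.Coprime.pow_right
      rw [Nat.coprime_two_right, Nat.odd_iff]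
      exact hodd
    have c5 : Nat.Coprime n 5 := by
      rw [Nat.coprime_comm, Nat.Prime.coprime_iff_not_dvd (by norm_num)]
      omega
    exact c5.dvd_of_dvd_mul_left (c2.dvd_of_dvd_mul_left hdvd)
  have hn' : n ∈ Nat.divisors (3 ^ 3 * 11 * 13) := Nat.mem_divisors.2 ⟨hn, by norm_num⟩
  have key : ∀ n ∈ Nat.divisors (3 ^ 3 * 11 * 13), n % 3 = 0 → (n % 5 = 3 ∨ n % 5 = 1) → n % 7 = 3 → n = 3 := by
    decide +kernel
  exact key n hn' h3 h5 h7

/-- **the centralizer of a product of two noncommuting transpositions** -/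
theorem card_three : Nat.card ↥(centralizer ({a * b} : Set K)) = 19595520 := by
  have h := C.card_mul ha hb hab
  rw [C.inv_card ha hb hab] at h
  omega

end ThreeA

end Ctx

end Cfsg.Agent.LThreeFi22

end

-- merged: Cfsg.Agent.KFacts.FiTT.ForGeo
section

/-!
# `perfP` and `cenJ` of `OddHalf.D8.Fi22.Geo`
-/

set_option autoImplicit false

namespace Cfsg.Agent.KFacts.FiTT

open Cfsg Subgroup Cfsg.Agent.R01.Label
open Cfsg.Agent.KFacts.FiTT.Cent

universe v

variable {K : Type v} [Group K]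

theorem centralizer_inf (a b : K) :
    centralizer ({a} : Set K) ⊓ centralizer ({b} : Set K) = centralizer ({a, b} : Set K) := by
  ext x
  rw [mem_inf, mem_centralizer_singleton_iff, mem_centralizer_singleton_iff, mem_centralizer_iff]
  constructor
  · rintro ⟨h1, h2⟩ y hy
    rcases hy with hy | hy
    · rw [hy]; exact h1.symm
    · rw [Set.mem_singleton_iff.1 hy]; exact h2.symm
  · intro h
    exact ⟨(h a (Or.inl rfl)).symm, (h b (Or.inr rfl)).symm⟩

theorem Facts.perf {a b : K} {R : Subgroup K} (F : Facts K a b R) :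
    ⁅centralizer ({a} : Set K) ⊓ centralizer ({b} : Set K),
      centralizer ({a} : Set K) ⊓ centralizer ({b} : Set K)⁆ =
      centralizer ({a} : Set K) ⊓ centralizer ({b} : Set K) := by
  rw [centralizer_inf]
  have h := congrArg (Subgroup.map (centralizer ({a, b} : Set K)).subtype) F.perfect
  rw [map_subtype_commutator, ← MonoidHom.range_eq_map, range_subtype] at h
  exact h

/-- the centraliser of two commuting transpositions is perfect -/
theorem perfP (e : K ≃* Spor.Fi22) : ∀ a ∈ TK e, ∀ b ∈ TK e, a ≠ b → a * b = b * a →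
    ⁅centralizer ({a} : Set K) ⊓ centralizer ({b} : Set K),
      centralizer ({a} : Set K) ⊓ centralizer ({b} : Set K)⁆ =
      centralizer ({a} : Set K) ⊓ centralizer ({b} : Set K) := by
  intro a ha b hb hne hab
  obtain ⟨R, F⟩ := facts_of_iso e ha hb hne hab
  exact F.perf

/-- every transposition commutes with another one -/
theorem exists_nbr (e : K ≃* Spor.Fi22) {a : K} (ha : a ∈ TK e) :
    ∃ b ∈ TK e, a ≠ b ∧ a * b = b * a := by
  obtain ⟨d, π, lift, B⟩ := exists_base_of e
  obtain ⟨-, ⟨t, ht, hT⟩, -⟩ := B.three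
  have h1 := ha
  have h2 := B.mem
  rw [hT] at h1 h2
  obtain ⟨g, hg⟩ := isConj_iff.1 (show IsConj d a from
    (show IsConj t d from h2).symm.trans (show IsConj t a from h1))
  refine ⟨g * d2 lift * g⁻¹, B.conj_mem B.d2_mem g, ?_, ?_⟩
  · intro h
    rw [← hg] at h
    exact B.ne (mul_left_cancel (mul_right_cancel h))
  · rw [← hg]
    have := B.d2_comm
    calc g * d * g⁻¹ * (g * d2 lift * g⁻¹) = g * (d * d2 lift) * g⁻¹ := by group
      _ = g * (d2 lift * d) * g⁻¹ := by rw [this]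
      _ = _ := by group

/-- `C_K(C_K(a)) = {1, a}` -/
theorem cenJ (e : K ≃* Spor.Fi22) : ∀ a ∈ TK e, ∀ g : K, g * a = a * g →
    (∀ j : K, j * a = a * j → g * j = j * g) → g = 1 ∨ g = a := by
  intro a ha g _ h
  obtain ⟨b, hb, hne, hab⟩ := exists_nbr e ha
  obtain ⟨R, F⟩ := facts_of_iso e ha hb hne hab
  exact F.cc g h

end Cfsg.Agent.KFacts.FiTT

end

-- merged: Cfsg.Agent.LThreeFi22.Inst
section

/-!
# `Fi22` satisfies `Ctx` (helper51)
-/

set_option autoImplicit false
set_option linter.unusedSectionVars false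

namespace Cfsg.Agent.LThreeFi22.Inst

open Cfsg Cfsg.Agent.LieClassical.HermBasic
open Cfsg.Agent.R01.Lifts Cfsg.Agent.R01.Label Cfsg.Agent.R01.Start
open Cfsg.Agent.KFacts.FiTT
open Cfsg.Agent.SporRec.GF4
open Cfsg.Agent.Fischer.Unit22 (hF)

universe v

section Local

variable {K : Type v} [Group K] {T : Set K} {d : K}
  {π : Subgroup.centralizer ({d} : Set K) →* PSU 6 F4 2}
  {lift : (Fin 6 → F4) → Subgroup.centralizer ({d} : Set K)} (B : Base K T d π lift)
include B

theorem mem_D {c : K} (hc : c ∈ T) (hcd : c ≠ d) (h : d * c = c * d) :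
    (⟨c, Subgroup.mem_centralizer_singleton_iff.2 h.symm⟩ : Subgroup.centralizer ({d} : Set K)) ∈ Dset lift := by
  rcases (B.memT ⟨c, Subgroup.mem_centralizer_singleton_iff.2 h.symm⟩).1 hc with h1 | h1
  · exact absurd (congrArg Subtype.val h1) hcd
  · exact h1

theorem of_D {x : Subgroup.centralizer ({d} : Set K)} (hx : x ∈ Dset lift) :
    (x : K) ∈ T ∧ (x : K) ≠ d ∧ d * (x : K) = x * d := by
  refine ⟨(B.memT x).2 (Or.inr hx), ?_, (Subgroup.mem_centralizer_singleton_iff.1 x.2).symm⟩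
  intro h
  apply B.lab.z_notMem
  have : x = zel d := Subtype.ext h
  rwa [← this]

theorem link : {c | c ∈ T ∧ c ≠ d ∧ d * c = c * d}.ncard = 693 := by
  have h1 : {c | c ∈ T ∧ c ≠ d ∧ d * c = c * d} = Subtype.val '' (Dset lift) := by
    ext c
    constructor
    · rintro ⟨hc, hcd, h⟩
      exact ⟨_, mem_D B hc hcd h, rfl⟩
    · rintro ⟨x, hx, rfl⟩
      exact of_D B hx
  rw [h1, Set.ncard_image_of_injective _ Subtype.val_injective, B.link]

theorem iso7 {r : ℕ} (hr : r = 7 ∨ r = 11) {y : K} (hy : y ^ r = 1) (hy1 : y ≠ 1) (hyd : y * d = d * y)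
    {c : K} (hc : c ∈ T) (hcd : c ≠ d) (hdc : d * c = c * d) : y * c ≠ c * y := by
  have hyc : y ∈ Subgroup.centralizer ({d} : Set K) := Subgroup.mem_centralizer_singleton_iff.2 hyd
  intro h
  refine Coord.iso7 B.lab hr (c := ⟨y, hyc⟩) (Subtype.ext hy) (fun h1 => hy1 (congrArg Subtype.val h1))
    (mem_D B hc hcd hdc) (Subtype.ext h)

theorem three7 {r : ℕ} (hr : r = 7 ∨ r = 11) {y : K} (hy : y ^ r = 1) (hy1 : y ≠ 1) (hyd : y * d = d * y)
    {x : K} (hx : x ^ 3 = 1) (hxy : x * y = y * x) (hxd : x * d = d * x) : x = 1 := by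
  have hyc : y ∈ Subgroup.centralizer ({d} : Set K) := Subgroup.mem_centralizer_singleton_iff.2 hyd
  have hxc : x ∈ Subgroup.centralizer ({d} : Set K) := Subgroup.mem_centralizer_singleton_iff.2 hxd
  have h := Coord.three7 B.lab hr (c := ⟨y, hyc⟩) (Subtype.ext hy) (fun h1 => hy1 (congrArg Subtype.val h1))
    (t := ⟨x, hxc⟩) (Subtype.ext hx) (Subtype.ext hxy)
  exact congrArg Subtype.val h

theorem iso5 [Finite K] {u : K} (hu : u ^ 5 = 1) (hu1 : u ≠ 1) (hud : u * d = d * u) :
    {c | c ∈ T ∧ c ≠ d ∧ d * c = c * d ∧ u * c = c * u}.ncard = 3 ∧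
    ∀ b ∈ T, ∀ c ∈ T, b ≠ d → c ≠ d → d * b = b * d → d * c = c * d → u * b = b * u → u * c = c * u →
      b * c = c * b → b = c := by
  have huc : u ∈ Subgroup.centralizer ({d} : Set K) := Subgroup.mem_centralizer_singleton_iff.2 hud
  obtain ⟨h1, h2⟩ := Coord.iso5 B.lab (u := ⟨u, huc⟩) (Subtype.ext hu) (fun h1 => hu1 (congrArg Subtype.val h1)) B.link
  constructor
  · have h3 : {c | c ∈ T ∧ c ≠ d ∧ d * c = c * d ∧ u * c = c * u} =
        Subtype.val '' {x | x ∈ Dset lift ∧ (⟨u, huc⟩ : Subgroup.centralizer ({d} : Set K)) * x = x * ⟨u, huc⟩} := by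
      ext c
      constructor
      · rintro ⟨hc, hcd, hdc, h⟩
        exact ⟨_, ⟨mem_D B hc hcd hdc, Subtype.ext h⟩, rfl⟩
      · rintro ⟨x, ⟨hx, h⟩, rfl⟩
        obtain ⟨e1, e2, e3⟩ := of_D B hx
        exact ⟨e1, e2, e3, congrArg Subtype.val h⟩
    rw [h3, Set.ncard_image_of_injective _ Subtype.val_injective, h1]
  · intro b hb c hc hbd hcd hdb hdc hub huc' hbc
    exact congrArg Subtype.val (h2 _ (mem_D B hb hbd hdb) _ (mem_D B hc hcd hdc) (Subtype.ext hub) (Subtype.ext huc')
      (Subtype.ext hbc))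

theorem three5 [Finite K] {u : K} (hu : u ^ 5 = 1) (hu1 : u ≠ 1) (hud : u * d = d * u)
    {x : K} (hx : x ^ 3 = 1) (hxu : x * u = u * x) (hxd : x * d = d * x)
    (h : ∀ c ∈ T, c ≠ d → d * c = c * d → u * c = c * u → x * c = c * x) : x = 1 := by
  have huc : u ∈ Subgroup.centralizer ({d} : Set K) := Subgroup.mem_centralizer_singleton_iff.2 hud
  have hxc : x ∈ Subgroup.centralizer ({d} : Set K) := Subgroup.mem_centralizer_singleton_iff.2 hxd
  have h1 := Coord.three5 B.lab (u := ⟨u, huc⟩) (Subtype.ext hu) (fun h1 => hu1 (congrArg Subtype.val h1)) B.link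
    (t := ⟨x, hxc⟩) (Subtype.ext hx) (Subtype.ext hxu) (by
      intro y hy huy
      obtain ⟨e1, e2, e3⟩ := of_D B hy
      exact Subtype.ext (h y e1 e2 e3 (congrArg Subtype.val huy)))
  exact congrArg Subtype.val h1

end Local

/-! ### The instance -/

section Global

variable {K : Type v} [Group K] (e : K ≃* Spor.Fi22)

theorem mem_TK {x : K} : x ∈ TK e ↔ e x ∈ Cfsg.Agent.R01.Fi22Facts.T := by
  constructor
  · rintro ⟨y, hy, rfl⟩
    rwa [e.apply_symm_apply]
  · intro h
    exact ⟨e x, h, e.symm_apply_apply x⟩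

theorem base_at {a : K} (ha : a ∈ TK e) :
    ∃ (π : Subgroup.centralizer ({a} : Set K) →* PSU 6 F4 2)
      (lift : (Fin 6 → F4) → Subgroup.centralizer ({a} : Set K)), Base K (TK e) a π lift := by
  obtain ⟨d, π, lift, B⟩ := exists_base_of e
  obtain ⟨b, hb, hne, hab⟩ := exists_nbr e ha
  obtain ⟨π', lift', B', -⟩ := B.exists_at ha hb hne hab
  exact ⟨π', lift', B'⟩

/-- **`Fi22` satisfies `Ctx`** -/
theorem ctx : Ctx K (TK e) := by
  obtain ⟨d, π, lift, B⟩ := exists_base_of e
  have hfin : Finite K := Nat.finite_of_card_ne_zero (by rw [B.card]; norm_num)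
  have hsq : ∀ t ∈ TK e, t * t = 1 := by
    intro t ht
    have := pow_orderOf_eq_one t
    rw [B.three.1.1 t ht, pow_two] at this
    exact this
  exact
    { card := B.card
      ncard := B.ncard
      sq := hsq
      ne1 := by
        rintro t ht rfl
        have := B.three.1.1 1 ht
        rw [orderOf_one] at this
        omega
      conj := fun t ht g => B.conj_mem ht g
      three := by
        intro a ha b hb
        have ha2 := hsq a ha
        have hb2 := hsq b hb
        rcases B.three.1.2 a ha b hb with h | h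
        · left
          rw [pow_two] at h
          calc a * b = a * b * (a * b) * (b * a) := by
                calc a * b = a * b * (a * (b * b) * a) := by rw [hb2, mul_one, ha2, mul_one]
                  _ = a * b * (a * b) * (b * a) := by group
            _ = b * a := by rw [h, one_mul]
        · right
          have h1 : (a * b * a) * (b * a * b) = 1 := by
            rw [← h, pow_succ, pow_two]; group
          have h2 : (b * a * b) * (b * a * b) = 1 := by
            calc (b * a * b) * (b * a * b) = b * a * (b * b) * a * b := by group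
              _ = b * (a * a) * b := by rw [hb2]; group
              _ = 1 := by rw [ha2, mul_one, hb2]
          exact mul_right_cancel (h1.trans h2.symm)
      link := by
        intro a ha
        obtain ⟨π', lift', B'⟩ := base_at e ha
        exact link B'
      transC := fun a ha b hb a' ha' b' hb' h h' hc hc' => B.trans a ha b hb a' ha' b' hb' h h' hc hc'
      transN := by
        intro a ha b hb a' ha' b' hb' h h'
        have key : ∀ x y : K, x * y ≠ y * x → ¬ Commute (e x) (e y) := by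
          intro x y hxy h1
          apply hxy
          apply e.injective
          rw [map_mul, map_mul]
          exact h1
        obtain ⟨k, h1, h2⟩ := Cfsg.Agent.R01.Fi22Facts.trans_noncommuting (e a) ((mem_TK e).1 ha) (e b) ((mem_TK e).1 hb)
          (e a') ((mem_TK e).1 ha') (e b') ((mem_TK e).1 hb') (key a b h) (key a' b' h')
        refine ⟨e.symm k, e.injective ?_, e.injective ?_⟩
        · rw [map_mul, map_mul, map_inv, e.apply_symm_apply, h1]
        · rw [map_mul, map_mul, map_inv, e.apply_symm_apply, h2]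
      mupos := by
        obtain ⟨x, y, w, h1, h2, h3⟩ := Five.mupos
        have hE := Cfsg.Agent.R01.Fi22Facts.E.injective
        have key : ∀ x : Cfsg.Agent.Fischer.Group22.X, e.symm (Cfsg.Agent.R01.Fi22Facts.E
            (Cfsg.Agent.Fischer.Rank22.R.t x)) ∈ TK e := fun x =>
          ⟨_, Cfsg.Agent.R01.Fi22Facts.mem_T_iff.2 ⟨x, rfl⟩, rfl⟩
        refine ⟨_, key x, _, key y, _, key w, ?_, ?_, ?_⟩
        · rw [← map_mul, ← map_mul, ← map_mul, ← map_mul]
          exact fun h => h1 (hE (e.symm.injective h))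
        · rw [← map_mul, ← map_mul, ← map_mul, ← map_mul, h2]
        · rw [← map_mul, ← map_mul, ← map_mul, ← map_mul, h3]
      cz := by
        intro a ha b hb hne hab
        obtain ⟨R, hR⟩ := facts_of_iso e ha hb hne hab
        exact hR.cz
      iso7 := by
        intro r hr y hy hy1 a ha hya
        obtain ⟨π', lift', B'⟩ := base_at e ha
        exact fun c hc hca hac => iso7 B' hr hy hy1 hya hc hca hac
      three7 := by
        intro r hr y hy hy1 a ha hya
        obtain ⟨π', lift', B'⟩ := base_at e ha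
        exact fun x hx hxy hxa => three7 B' hr hy hy1 hya hx hxy hxa
      iso5 := by
        intro u hu hu1 a ha hua
        obtain ⟨π', lift', B'⟩ := base_at e ha
        exact iso5 B' hu hu1 hua
      three5 := by
        intro u hu hu1 a ha hua x hx hxu hxa h
        obtain ⟨π', lift', B'⟩ := base_at e ha
        exact three5 B' hu hu1 hua hx hxu hxa h
      ex5 := by
        intro u hu hu1
        let E := Cfsg.Agent.R01.Fi22Facts.E
        have h1 : (E.symm (e u)) ^ 5 = 1 := by rw [← map_pow, ← map_pow, hu, map_one, map_one]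
        have h2 : E.symm (e u) ≠ 1 := by
          intro h
          apply hu1
          apply e.injective
          rw [map_one]
          apply E.symm.injective
          rw [h, map_one]
        obtain ⟨x, hx⟩ := Five.ex5 (E.symm (e u)) h1 h2
        refine ⟨e.symm (E (Cfsg.Agent.Fischer.Rank22.R.t x)),
          ⟨_, Cfsg.Agent.R01.Fi22Facts.mem_T_iff.2 ⟨x, rfl⟩, rfl⟩, ?_⟩
        apply e.injective
        rw [map_mul, map_mul, e.apply_symm_apply]
        apply E.symm.injective
        rw [map_mul, map_mul, E.symm_apply_apply]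
        exact hx }

end Global

end Cfsg.Agent.LThreeFi22.Inst

end
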